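import Groth.Agent.H83.LiftGrp.Retract

/-! The retract attached to a finite family of diagonalisations. -/

set_option autoImplicit false

universe u

open TensorProduct

namespace Groth.Agent.H83.LiftGrp

open Groth.Agent.H83.MultType

variable {R : Type u} [CommRing R] {A : Type u} [CommRing A] [HopfAlgebra R A] {ι : Type u} [Fintype ι] [DecidableEq ι]
  {S : ι → Type u} [∀ i, CommRing (S i)] [∀ i, Algebra R (S i)]

/-- The projections. -/
noncomputable abbrev prj (i : ι) : (Π j, S j) →ₐ[R] S i := Pi.evalAlgHom R S i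

theorem eq_of_prj {M : Type u} [CommGroup M] {y z : MonoidAlgebra (Π j, S j) M}
    (h : ∀ i, coeffGroup (prj (R := R) i) M y = coeffGroup (prj (R := R) i) M z) : y = z :=
  ext_coeff fun p => funext fun i => by
    have := congrArg (coeffAt (S i) p) (h i)
    rwa [coeffAt_coeffGroup, coeffAt_coeffGroup] at this

theorem exists_prj {M : Type u} [CommGroup M] (y : ∀ i, MonoidAlgebra (S i) M) :
    ∃ z : MonoidAlgebra (Π j, S j) M, ∀ i, coeffGroup (prj (R := R) i) M z = y i := by
  classical
  refine ⟨∑ i, ∑ p ∈ (y i).coeff.support, MonoidAlgebra.single p (Pi.single i (coeffAt (S i) p (y i))), fun j => ?_⟩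
  rw [map_sum, Finset.sum_eq_single j (fun i _ hij => ?_) (by simp), map_sum]
  · conv_rhs => rw [← (y j).sum_coeff_single, Finsupp.sum]
    refine Finset.sum_congr rfl fun p _ => ?_
    simp [coeffGroup_single, coeffAt]
  · rw [map_sum]
    refine Finset.sum_eq_zero fun p _ => ?_
    simp [coeffGroup_single, Pi.single_eq_of_ne (Ne.symm hij)]

/-- The inclusion of a factor. -/
noncomputable abbrev inc (i : ι) : S i →ₗ[R] Π j, S j := LinearMap.single R S i

theorem sum_inc_prj {Q : Type u} [AddCommGroup Q] [Module R Q] (x : (Π j, S j) ⊗[R] Q) :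
    ∑ i, (inc (R := R) i).rTensor Q ((prj (R := R) i).toLinearMap.rTensor Q x) = x := by
  induction x using TensorProduct.induction_on with
  | zero => simp
  | add a b ha hb => simp only [map_add, Finset.sum_add_distrib, ha, hb]
  | tmul s q =>
    simp only [LinearMap.rTensor_tmul, ← TensorProduct.sum_tmul]
    congr 1
    exact LinearMap.sum_single_apply S s

theorem eq_of_prj_tensor {Q : Type u} [AddCommGroup Q] [Module R Q] {x y : (Π j, S j) ⊗[R] Q}
    (h : ∀ i, (prj (R := R) i).toLinearMap.rTensor Q x = (prj (R := R) i).toLinearMap.rTensor Q y) : x = y := by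
  rw [← sum_inc_prj x, ← sum_inc_prj y]
  simp only [h]

theorem coeffMap_eq_rTensor {S T : Type u} [CommRing S] [Algebra R S] [CommRing T] [Algebra R T] (g : S →ₐ[R] T)
    (x : S ⊗[R] A) : coeffMap g x = g.toLinearMap.rTensor A x := by
  induction x using TensorProduct.induction_on with
  | zero => simp
  | tmul s c => rfl
  | add a b ha hb => simp only [map_add, ha, hb]

theorem exists_prj_tensor (x : ∀ i, S i ⊗[R] A) :
    ∃ z : (Π j, S j) ⊗[R] A, ∀ i, coeffMap (prj (R := R) i) z = x i := by
  refine ⟨∑ i, (inc (R := R) i).rTensor A (x i), fun j => ?_⟩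
  rw [map_sum, Finset.sum_eq_single j (fun i _ hij => ?_) (by simp)]
  · rw [coeffMap_eq_rTensor, ← LinearMap.comp_apply, ← LinearMap.rTensor_comp]
    rw [show (prj (R := R) j).toLinearMap ∘ₗ inc (R := R) j = LinearMap.id from LinearMap.ext fun s => by simp]
    simp
  · rw [coeffMap_eq_rTensor, ← LinearMap.comp_apply, ← LinearMap.rTensor_comp]
    rw [show (prj (R := R) j).toLinearMap ∘ₗ inc (R := R) i = 0 from
      LinearMap.ext fun s => by simp [Pi.single_eq_of_ne (Ne.symm hij)]]
    simp

set_option synthInstance.maxHeartbeats 200000 in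
set_option maxHeartbeats 800000 in
/-- The retract of a finite family of diagonalisations. -/
theorem exists_retract (M : ι → Type u) [∀ i, CommGroup (M i)]
    (e : ∀ i, (S i ⊗[R] A) ≃ₐc[S i] MonoidAlgebra (S i) (M i)) :
    ∃ r : Retract R A (Π j, S j) (Π j, M j), ∀ (i : ι) (m : Π j, M j),
      coeffGroup (prj (R := R) i) _ (r.q (r.p m)) = MonoidAlgebra.single (Pi.mulSingle i (m i)) 1 := by
  classical
  let Mp := Π j, M j
  let μ : ∀ i, MonoidAlgebra (S i) (M i) →ₐc[S i] MonoidAlgebra (S i) Mp := fun i =>
    MonoidAlgebra.mapDomainBialgHom (S i) (MonoidHom.mulSingle M i)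
  let g : ∀ i, A → MonoidAlgebra (S i) Mp := fun i a => μ i (e i ((1 : S i) ⊗ₜ[R] a))
  choose w hw using fun a : A => exists_prj (R := R) (fun i => g i a)
  let gA : ∀ i, A →ₐ[R] MonoidAlgebra (S i) Mp := fun i =>
    (((μ i : MonoidAlgebra (S i) (M i) →ₐ[S i] MonoidAlgebra (S i) Mp).restrictScalars R).comp
      (((e i : (S i ⊗[R] A) →ₐc[S i] MonoidAlgebra (S i) (M i)) : (S i ⊗[R] A) →ₐ[S i] MonoidAlgebra (S i) (M i)).restrictScalars R)).comp
      Algebra.TensorProduct.includeRight
  have hgA : ∀ i a, gA i a = g i a := fun i a => rfl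
  let φ : A →ₐ[R] MonoidAlgebra (Π j, S j) Mp :=
    { toFun := w
      map_one' := eq_of_prj (R := R) fun i => by rw [hw, map_one, ← hgA, map_one]
      map_mul' := fun a b => eq_of_prj (R := R) fun i => by rw [map_mul, hw, hw, hw, ← hgA, map_mul, hgA, hgA]
      map_zero' := eq_of_prj (R := R) fun i => by rw [hw, map_zero, ← hgA, map_zero]
      map_add' := fun a b => eq_of_prj (R := R) fun i => by rw [map_add, hw, hw, hw, ← hgA, map_add, hgA, hgA]
      commutes' := fun x => eq_of_prj (R := R) fun i => by
        rw [hw, ← hgA, AlgHom.commutes, MonoidAlgebra.coe_algebraMap, MonoidAlgebra.coe_algebraMap, Function.comp_apply,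
          Function.comp_apply, coeffGroup_single, AlgHom.commutes] }
  have hφ : ∀ i a, coeffGroup (prj (R := R) i) Mp (φ a) = g i a := fun i a => hw a i
  let qa : (Π j, S j) ⊗[R] A →ₐ[Π j, S j] MonoidAlgebra (Π j, S j) Mp :=
    Algebra.TensorProduct.lift (Algebra.ofId _ _) φ (fun _ _ => by exact Commute.all _ _)
  have hqa : ∀ a, qa ((1 : Π j, S j) ⊗ₜ[R] a) = φ a := fun a => by simp [qa, ← MonoidAlgebra.one_def]
  have hqs : ∀ (s : Π j, S j) a, qa (s ⊗ₜ[R] a) = s • φ a := fun s a => by simp [qa, Algebra.smul_def]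
  let q : (Π j, S j) ⊗[R] A →ₐc[Π j, S j] MonoidAlgebra (Π j, S j) Mp := BialgHom.ofAlgHom qa
    (by
      refine Algebra.TensorProduct.ext (Subsingleton.elim _ _) (AlgHom.ext fun a => ?_)
      show CoalgebraStruct.counit (R := Π j, S j) (qa ((1 : Π j, S j) ⊗ₜ[R] a)) =
        CoalgebraStruct.counit (R := Π j, S j) ((1 : Π j, S j) ⊗ₜ[R] a)
      rw [hqa, TensorProduct.counit_tmul, Bialgebra.counit_one]
      funext i
      have := coeffGroup_counit (prj (R := R) i) (φ a)
      rw [hφ] at this
      refine this.symm.trans ?_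
      rw [CoalgHomClass.counit_comp_apply (μ i), CoalgHomClass.counit_comp_apply (e i), TensorProduct.counit_tmul,
        Bialgebra.counit_one, ← Algebra.algebraMap_eq_smul_one, ← Algebra.algebraMap_eq_smul_one]
      rfl)
    (by
      refine Algebra.TensorProduct.ext (Subsingleton.elim _ _) (AlgHom.ext fun a => ?_)
      show Algebra.TensorProduct.map qa qa (CoalgebraStruct.comul (R := Π j, S j) ((1 : Π j, S j) ⊗ₜ[R] a)) =
        CoalgebraStruct.comul (R := Π j, S j) (qa ((1 : Π j, S j) ⊗ₜ[R] a))
      rw [hqa]
      refine ext_coeff₂ fun p p' => funext fun i => ?_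
      have h1 := coeff₂_coeffGroup₂ (prj (R := R) (S := S) i) p p'
      refine (h1 _).symm.trans (Eq.trans (congrArg (coeff₂ (S i) p p') ?_) (h1 _))
      rw [← coeffGroup_comul, hφ, TensorProduct.comul_tmul, Bialgebra.comul_one]
      show _ = CoalgebraStruct.comul (R := S i) (μ i (e i ((1 : S i) ⊗ₜ[R] a)))
      rw [← CoalgHomClass.map_comp_comul_apply (μ i), ← CoalgHomClass.map_comp_comul_apply (e i), TensorProduct.comul_tmul,
        Bialgebra.comul_one]
      generalize CoalgebraStruct.comul (R := R) a = z
      induction z using TensorProduct.induction_on with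
      | zero => simp
      | add x y hx hy => simp only [TensorProduct.tmul_add, map_add, hx, hy]
      | tmul x y =>
        simp [Algebra.TensorProduct.one_def, coeffGroup₂_tmul, hqa, hφ, g])
  let pe : ∀ i, Mp →* S i ⊗[R] A := fun i =>
    ((e i).symm : MonoidAlgebra (S i) (M i) →ₐc[S i] S i ⊗[R] A).toAlgHom.toMonoidHom.comp
      ((MonoidAlgebra.of (S i) (M i)).comp (Pi.evalMonoidHom M i))
  choose pw hpw using fun m : Mp => exists_prj_tensor (R := R) (fun i => pe i m)
  have heqT : ∀ {x y : (Π j, S j) ⊗[R] A}, (∀ i, coeffMap (prj (R := R) i) x = coeffMap (prj (R := R) i) y) → x = y := fun {x y} h =>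
    eq_of_prj_tensor fun i => by rw [← coeffMap_eq_rTensor, ← coeffMap_eq_rTensor]; exact h i
  let p : Mp →* (Π j, S j) ⊗[R] A :=
    { toFun := pw
      map_one' := heqT fun i => by rw [hpw, map_one, map_one]
      map_mul' := fun m n => heqT fun i => by rw [map_mul (coeffMap _), hpw, hpw, hpw, map_mul] }
  have hp : ∀ i m, coeffMap (prj (R := R) i) (p m) = (e i).symm (MonoidAlgebra.single (m i) 1) := fun i m => hpw m i
  have hqpush : ∀ i (x : (Π j, S j) ⊗[R] A), coeffGroup (prj (R := R) i) Mp (q x) = μ i (e i (coeffMap (prj (R := R) i) x)) := by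
    intro i x
    induction x using TensorProduct.induction_on with
    | zero => simp
    | add a b ha hb => simp only [map_add, ha, hb]
    | tmul s a =>
      rw [coeffMap_tmul, show prj (R := R) i s ⊗ₜ[R] a = prj (R := R) i s • ((1 : S i) ⊗ₜ[R] a) by
        rw [TensorProduct.smul_tmul', smul_eq_mul, mul_one], map_smul, map_smul]
      show coeffGroup (prj (R := R) i) Mp (qa (s ⊗ₜ[R] a)) = prj (R := R) i s • g i a
      rw [hqs, ← hφ]
      exact ext_coeff fun p => by simp [coeffAt_coeffGroup]
  have hcompat : ∀ i (y : MonoidAlgebra (Π j, S j) Mp), coeffMap (prj (R := R) i) (ext1 p y) =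
      ext1 (pe i) (coeffGroup (prj (R := R) i) Mp y) := by
    intro i y
    induction y using MonoidAlgebra.induction_linear with
    | zero => simp
    | add a b ha hb => simp only [map_add, ha, hb]
    | single m s =>
      rw [coeffGroup_single, ext1_single, ext1_single, ← show coeffMap (prj (R := R) i) (p m) = pe i m from hpw m i]
      generalize p m = x
      induction x using TensorProduct.induction_on with
      | zero => simp
      | tmul t b => simp [TensorProduct.smul_tmul', coeffMap_tmul]
      | add b c hb hc => simp only [smul_add, map_add, hb, hc]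
  refine ⟨⟨q, p, fun m => ?_, fun x => heqT fun i => ?_⟩, fun i m => ?_⟩
  · refine (groupLike_iff (p m)).mpr ⟨?_, funext fun i => ?_⟩
    · refine eq_of_prj_tensor fun i => ?_
      have hg : IsGroupLikeElem (S i) ((e i).symm (MonoidAlgebra.single (m i) (1 : S i))) :=
        IsGroupLikeElem.map (e i).symm ⟨by simp, by simp⟩
      obtain ⟨h1, h2, h3⟩ := coeffMap₂_comulS (prj (R := R) i) (p m)
      have hT : ∀ z : (Π j, S j) ⊗[R] (A ⊗[R] A), (prj (R := R) i).toLinearMap.rTensor _ z =
          Algebra.TensorProduct.map (prj (R := R) i) (AlgHom.id R (A ⊗[R] A)) z := fun z => by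
        induction z using TensorProduct.induction_on with
        | zero => simp
        | tmul s c => rfl
        | add a b ha hb => simp only [map_add, ha, hb]
      rw [hT, hT, map_mul, h1, h2, h3, hp]
      exact ((groupLike_iff _).mp hg).1
    · have := counit_coeffMap (prj (R := R) i) (p m)
      rw [hp, CoalgHomClass.counit_comp_apply (e i).symm] at this
      simpa using this.symm
  · rw [hcompat, hqpush]
    generalize coeffMap (prj (R := R) i) x = v
    conv_rhs => rw [← (e i).symm_apply_apply v]
    generalize e i v = y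
    induction y using MonoidAlgebra.induction_linear with
    | zero => simp
    | add a b ha hb => simp only [map_add, ha, hb]
    | single n s =>
      rw [show μ i (MonoidAlgebra.single n s) = MonoidAlgebra.single (Pi.mulSingle i n) s by simp [μ]; rfl,
        ext1_single, show MonoidAlgebra.single n s = s • MonoidAlgebra.single n (1 : S i) by
          rw [MonoidAlgebra.smul_single, smul_eq_mul, mul_one], map_smul]
      congr 1
      show (e i).symm (MonoidAlgebra.single ((Pi.mulSingle i n : Mp) i) 1) = _
      rw [Pi.mulSingle_eq_same]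
  · rw [hqpush, hp, show e i ((e i).symm (MonoidAlgebra.single (m i) 1)) = _ from (e i).apply_symm_apply _]
    simp [μ]
    rfl

end Groth.Agent.H83.LiftGrp
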