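import Groth.Agent.H83.LiftGrp.Lift
import Groth.Agent.H83.LiftGrp.Prod
import Groth.Agent.H83.MultType.EtaleLift
import Groth.Agent.Lib.Henselian.FiniteEtale

/-! Groups of multiplicative type lift along nil ideals and along complete ideals. -/

set_option autoImplicit false

universe u

open TensorProduct

namespace Groth.Agent.H83.LiftGrp

open Groth.Agent.H83.MultType

variable {R : Type u} [CommRing R]

/-- Where the retraction is that of a factor, the group is diagonalisable. -/
theorem exists_diag_component {A : Type u} [CommRing A] [HopfAlgebra R A] {S : Type u} [CommRing S] [Algebra R S]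
    {M : Type u} [CommGroup M] (r : Retract R A S M) {T : Type u} [CommRing T] [Algebra R T] (σ : S →ₐ[R] T)
    {N : Type u} [CommGroup N] (pr : M →* N) (ι : N →* M) (hpi : ∀ n, pr (ι n) = n)
    (hπ : ∀ m, coeffGroup σ M (r.q (r.p m)) = MonoidAlgebra.single (ι (pr m)) 1) :
    Nonempty ((T ⊗[R] A) ≃ₐc[T] MonoidAlgebra T N) := by
  let dn : MonoidAlgebra T M →ₐc[T] MonoidAlgebra T N := MonoidAlgebra.mapDomainBialgHom T pr
  let up : MonoidAlgebra T N →ₐc[T] MonoidAlgebra T M := MonoidAlgebra.mapDomainBialgHom T ι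
  let E : T ⊗[R] A →ₐc[T] MonoidAlgebra T N := dn.comp (r.qh σ)
  let g : MonoidAlgebra T N →ₐ[T] T ⊗[R] A :=
    (ext1 (r.ph σ) : MonoidAlgebra T M →ₐ[T] T ⊗[R] A).comp (up : MonoidAlgebra T N →ₐ[T] MonoidAlgebra T M)
  have hud : ∀ y : MonoidAlgebra T M, r.qh σ (ext1 (r.ph σ) y) = up (dn y) := by
    intro y
    induction y using MonoidAlgebra.induction_linear with
    | zero => simp
    | add a b ha hb => simp only [map_add, ha, hb]
    | single m t =>
      rw [ext1_single, map_smul, show r.ph σ m = coeffMap σ (r.p m) from rfl, Retract.qh_coeffMap, hπ,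
        MonoidAlgebra.smul_single, smul_eq_mul, mul_one]
      simp [up, dn]
  have hdu : ∀ y : MonoidAlgebra T N, dn (up y) = y := by
    intro y
    induction y using MonoidAlgebra.induction_linear with
    | zero => simp
    | add a b ha hb => simp only [map_add, ha, hb]
    | single n t => simp [up, dn, hpi]
  refine ⟨BialgEquiv.ofBijective E ⟨fun x y hxy => ?_, fun y => ⟨g y, ?_⟩⟩⟩
  · have h : ∀ x, g (E x) = x := fun x => by
      show ext1 (r.ph σ) (up (dn (r.qh σ x))) = x
      rw [← hud, Retract.ph_qh, Retract.ph_qh]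
    rw [← h x, ← h y, hxy]
  · show dn (r.qh σ (ext1 (r.ph σ) (up y))) = y
    rw [hud, hdu, hdu]

/-- The retract of one diagonalisation. -/
noncomputable def retractOfDiag {A : Type u} [CommRing A] [HopfAlgebra R A] {S : Type u} [CommRing S] [Algebra R S]
    {M : Type u} [CommGroup M] (e : (S ⊗[R] A) ≃ₐc[S] MonoidAlgebra S M) : Retract R A S M where
  q := (e : (S ⊗[R] A) →ₐc[S] MonoidAlgebra S M)
  p := ((e.symm : MonoidAlgebra S M →ₐc[S] S ⊗[R] A).toAlgHom.toMonoidHom).comp (MonoidAlgebra.of S M)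
  p_gl m := IsGroupLikeElem.map e.symm (⟨by simp, by simp⟩ : IsGroupLikeElem S (MonoidAlgebra.single m (1 : S)))
  pq x := by
    conv_rhs => rw [← e.symm_apply_apply x]
    show ext1 _ (e x) = _
    generalize e x = y
    induction y using MonoidAlgebra.induction_linear with
    | zero => simp
    | add a b ha hb => simp only [map_add, ha, hb]
    | single m s =>
      rw [ext1_single, show MonoidAlgebra.single m s = s • MonoidAlgebra.single m (1 : S) by
        rw [MonoidAlgebra.smul_single, smul_eq_mul, mul_one], map_smul]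
      rfl

theorem bijOn_idempotents_of_nil {I : Ideal R} (hI : ∀ x ∈ I, IsNilpotent x) (T : Type u) [CommRing T] [Algebra R T] :
    Set.BijOn (Ideal.Quotient.mk (I.map (algebraMap R T))) {e : T | IsIdempotentElem e} {e | IsIdempotentElem e} := by
  refine ⟨fun e he => IsIdempotentElem.map he _, fun e he e' he' h => ?_, fun e he => ?_⟩
  · exact eq_of_isNilpotent_sub_of_isIdempotentElem he he' (isNilpotent_of_mem_map hI T _ (Ideal.Quotient.eq.mp h))
  · obtain ⟨e', he', hee⟩ := exists_isIdempotentElem_eq_of_ker_isNilpotent (Ideal.Quotient.mk (I.map (algebraMap R T)))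
      (fun x hx => isNilpotent_of_mem_map hI T x (Ideal.Quotient.eq_zero_iff_mem.mp hx)) e
      (Ideal.Quotient.mk_surjective e) he
    exact ⟨e', he', hee⟩

theorem mem_map_of_one_tmul_eq_zero (I : Ideal R) {B : Type u} [CommRing B] [Algebra R B] {b : B}
    (hb : (1 : R ⧸ I) ⊗ₜ[R] b = 0) : b ∈ I.map (algebraMap R B) := by
  rw [← (TensorProduct.quotTensorEquivQuotSMul B I).map_eq_zero_iff,
    show (1 : R ⧸ I) ⊗ₜ[R] b = Ideal.Quotient.mk I 1 ⊗ₜ[R] b by simp,
    TensorProduct.quotTensorEquivQuotSMul_mk_tmul, one_smul, Submodule.Quotient.mk_eq_zero, Ideal.smul_top_eq_map] at hb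
  exact hb

/-- The étale lift of a trivialising algebra over a basic open. -/
theorem exists_away_lift (I : Ideal R) (hI : ∀ x ∈ I, IsNilpotent x) (f : R) (S' : Type u) [CommRing S']
    [Algebra (Localization.Away (Ideal.Quotient.mk I f)) S']
    [Algebra.Etale (Localization.Away (Ideal.Quotient.mk I f)) S']
    [Module.FaithfullyFlat (Localization.Away (Ideal.Quotient.mk I f)) S']
    [Algebra (R ⧸ I) S'] [IsScalarTower (R ⧸ I) (Localization.Away (Ideal.Quotient.mk I f)) S']
    [Algebra R S'] [IsScalarTower R (R ⧸ I) S'] :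
    ∃ (L : Type u) (_ : CommRing L) (_ : Algebra R L) (_ : Algebra.Etale R L) (_ : Algebra (Localization.Away f) L)
      (_ : IsScalarTower R (Localization.Away f) L) (ψ : L →ₐ[R] S'),
      Algebra.Etale (Localization.Away f) L ∧ Module.FaithfullyFlat (Localization.Away f) L ∧
      Function.Surjective ψ ∧ RingHom.ker ψ.toRingHom = I.map (algebraMap R L) := by
  let L₀ := Localization.Away (Ideal.Quotient.mk I f)
  haveI : Algebra.Etale (R ⧸ I) S' := Algebra.Etale.comp (R ⧸ I) L₀ S'
  obtain ⟨L, _, _, hLe, ψ, hψ, hker⟩ := Lib.Henselian.EtaleLift.exists_etale_lift I S'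
  haveI : Module.Flat R L := Algebra.Smooth.flat R L
  have hfu : IsUnit (algebraMap R L f) := by
    have h1 : IsUnit (ψ (algebraMap R L f)) := by
      rw [AlgHom.commutes, IsScalarTower.algebraMap_apply R (R ⧸ I) S', IsScalarTower.algebraMap_apply (R ⧸ I) L₀ S',
        Ideal.Quotient.algebraMap_eq]
      exact (IsLocalization.Away.algebraMap_isUnit (Ideal.Quotient.mk I f)).map _
    obtain ⟨u, hu⟩ := h1
    obtain ⟨g, hg⟩ := hψ ↑u⁻¹
    have h2 : algebraMap R L f * g - 1 ∈ I.map (algebraMap R L) := by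
      rw [← hker, RingHom.mem_ker]
      show ψ _ = 0
      rw [map_sub, map_mul, map_one, hg, ← hu, Units.mul_inv, sub_self]
    have h3 := (isNilpotent_of_mem_map hI L _ h2).isUnit_one_add
    rw [add_sub_cancel] at h3
    exact isUnit_of_mul_isUnit_left h3
  letI : Algebra (Localization.Away f) L := (IsLocalization.Away.lift f (g := algebraMap R L) hfu).toAlgebra
  haveI : IsScalarTower R (Localization.Away f) L := IsScalarTower.of_algebraMap_eq fun r =>
    (IsLocalization.Away.lift_eq f hfu r).symm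
  haveI : Algebra.Etale (Localization.Away f) L := Algebra.Etale.of_restrictScalars R _ _
  haveI : Module.Flat (Localization.Away f) L := Algebra.Smooth.flat _ L
  refine ⟨L, inferInstance, inferInstance, hLe, inferInstance, inferInstance, ψ, inferInstance, ?_, hψ, hker⟩
  refine Module.FaithfullyFlat.of_comap_surjective fun P => ?_
  let p : Ideal R := P.asIdeal.comap (algebraMap R (Localization.Away f))
  have hfp : f ∉ p := fun h => P.2.ne_top (Ideal.eq_top_of_isUnit_mem _ h (IsLocalization.Away.algebraMap_isUnit f))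
  haveI hp : p.IsPrime := Ideal.IsPrime.comap _
  have hIp : I ≤ p := fun x hx => hp.radical.le (Ideal.mem_radical_iff.mpr (by
    obtain ⟨n, hn⟩ := hI x hx
    exact ⟨n, by rw [hn]; exact zero_mem _⟩))
  let pb : Ideal (R ⧸ I) := p.map (Ideal.Quotient.mk I)
  haveI hpb : pb.IsPrime := Ideal.map_isPrime_of_surjective Ideal.Quotient.mk_surjective (by rwa [Ideal.mk_ker])
  have hpbc : pb.comap (Ideal.Quotient.mk I) = p := by
    rw [Ideal.comap_map_of_surjective _ Ideal.Quotient.mk_surjective, ← RingHom.ker_eq_comap_bot, Ideal.mk_ker, sup_eq_left]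
    exact hIp
  have hfb : Ideal.Quotient.mk I f ∉ pb := fun h => hfp (hpbc ▸ h)
  obtain ⟨P₀, hP₀⟩ : ∃ P₀ : PrimeSpectrum L₀, PrimeSpectrum.comap (algebraMap (R ⧸ I) L₀) P₀ = ⟨pb, hpb⟩ := by
    have : (⟨pb, hpb⟩ : PrimeSpectrum (R ⧸ I)) ∈ Set.range (PrimeSpectrum.comap (algebraMap (R ⧸ I) L₀)) := by
      rw [PrimeSpectrum.localization_away_comap_range L₀ (Ideal.Quotient.mk I f)]
      exact hfb
    exact this
  obtain ⟨q, hq⟩ := PrimeSpectrum.comap_surjective_of_faithfullyFlat (A := L₀) (B := S') P₀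
  refine ⟨PrimeSpectrum.comap ψ.toRingHom q, ?_⟩
  apply PrimeSpectrum.localization_comap_injective (Localization.Away f) (Submonoid.powers f)
  rw [← PrimeSpectrum.comap_comp_apply, ← IsScalarTower.algebraMap_eq, ← PrimeSpectrum.comap_comp_apply,
    show ψ.toRingHom.comp (algebraMap R L) = (algebraMap L₀ S').comp ((algebraMap (R ⧸ I) L₀).comp (Ideal.Quotient.mk I)) from
      (ψ.comp_algebraMap).trans (by
        rw [IsScalarTower.algebraMap_eq R (R ⧸ I) S', IsScalarTower.algebraMap_eq (R ⧸ I) L₀ S', RingHom.comp_assoc]; rfl),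
    PrimeSpectrum.comap_comp_apply, hq, PrimeSpectrum.comap_comp_apply, hP₀]
  apply PrimeSpectrum.ext
  exact hpbc

theorem faithfullyFlat_pi {ι : Type u} [Fintype ι] [DecidableEq ι] (f : ι → R) (hf : Ideal.span (Set.range f) = ⊤)
    (S : ι → Type u) [∀ i, CommRing (S i)] [∀ i, Algebra R (S i)] [∀ i, Algebra (Localization.Away (f i)) (S i)]
    [∀ i, IsScalarTower R (Localization.Away (f i)) (S i)] [∀ i, Module.Flat R (S i)]
    [∀ i, Module.FaithfullyFlat (Localization.Away (f i)) (S i)] : Module.FaithfullyFlat R (Π i, S i) := by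
  haveI : Module.Flat R (Π i, S i) := Module.Flat.of_linearEquiv (DirectSum.linearEquivFunOnFintype R ι S).symm
  refine Module.FaithfullyFlat.of_comap_surjective fun P => ?_
  obtain ⟨i, hi⟩ : ∃ i, f i ∉ P.asIdeal := by
    by_contra hne
    push Not at hne
    exact P.2.ne_top (top_le_iff.mp (hf.ge.trans (Ideal.span_le.mpr (by rintro _ ⟨i, rfl⟩; exact hne i))))
  obtain ⟨Q, hQ⟩ : P ∈ Set.range (PrimeSpectrum.comap (algebraMap R (Localization.Away (f i)))) := by
    rw [PrimeSpectrum.localization_away_comap_range (Localization.Away (f i)) (f i)]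
    exact hi
  obtain ⟨q, hq⟩ := PrimeSpectrum.comap_surjective_of_faithfullyFlat (A := Localization.Away (f i)) (B := S i) Q
  refine ⟨PrimeSpectrum.comap (Pi.evalRingHom S i) q, ?_⟩
  rw [← hQ, ← hq, ← PrimeSpectrum.comap_comp_apply, ← PrimeSpectrum.comap_comp_apply, ← IsScalarTower.algebraMap_eq]
  rfl

set_option synthInstance.maxHeartbeats 200000 in
set_option maxHeartbeats 1600000 in
/-- Quasi-isotrivial groups lift along nil ideals. -/
theorem exists_quasi (I : Ideal R) (hI : ∀ x ∈ I, IsNilpotent x) (A₀ : Type u) [CommRing A₀] [HopfAlgebra (R ⧸ I) A₀]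
    (h0 : SGA3b.IsQuasiIsotrivial (R ⧸ I) A₀) :
    ∃ (A : Type u) (_ : CommRing A) (_ : HopfAlgebra R A), SGA3b.IsQuasiIsotrivial R A ∧
      Nonempty (((R ⧸ I) ⊗[R] A) ≃ₐc[R ⧸ I] A₀) := by
  classical
  obtain ⟨s, hs, hsf⟩ := h0
  obtain ⟨t, hts, ht⟩ := (Ideal.span_eq_top_iff_finite s).mp hs
  let ι : Type u := (t : Set (R ⧸ I))
  choose g hg using fun i : ι => Ideal.Quotient.mk_surjective (i.1 : R ⧸ I)
  have hgs : ∀ i : ι, Ideal.Quotient.mk I (g i) ∈ s := fun i => by rw [hg]; exact hts i.2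
  choose S₀ iC iA hSe hSf M iM he using fun i : ι => hsf _ (hgs i)
  letI : ∀ i, CommRing (S₀ i) := iC
  letI : ∀ i, Algebra (Localization.Away (Ideal.Quotient.mk I (g i))) (S₀ i) := iA
  letI : ∀ i, CommGroup (M i) := iM
  haveI : ∀ i, Algebra.Etale (Localization.Away (Ideal.Quotient.mk I (g i))) (S₀ i) := hSe
  haveI : ∀ i, Module.FaithfullyFlat (Localization.Away (Ideal.Quotient.mk I (g i))) (S₀ i) := hSf
  letI : ∀ i, Algebra (R ⧸ I) (S₀ i) := fun i =>
    ((algebraMap (Localization.Away (Ideal.Quotient.mk I (g i))) (S₀ i)).comp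
      (algebraMap (R ⧸ I) (Localization.Away (Ideal.Quotient.mk I (g i))))).toAlgebra
  haveI : ∀ i, IsScalarTower (R ⧸ I) (Localization.Away (Ideal.Quotient.mk I (g i))) (S₀ i) := fun i =>
    IsScalarTower.of_algebraMap_eq fun _ => rfl
  letI : ∀ i, Algebra R (S₀ i) := fun i => ((algebraMap (R ⧸ I) (S₀ i)).comp (Ideal.Quotient.mk I)).toAlgebra
  haveI : ∀ i, IsScalarTower R (R ⧸ I) (S₀ i) := fun i => IsScalarTower.of_algebraMap_eq fun _ => rfl
  let e₀ := fun i => (he i).some
  have e : ∀ i, (S₀ i ⊗[R ⧸ I] A₀) ≃ₐc[S₀ i] MonoidAlgebra (S₀ i) (M i) := fun i =>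
    (exists_towerEquiv (R ⧸ I) (Localization.Away (Ideal.Quotient.mk I (g i))) (S₀ i) A₀).choose.trans (e₀ i)
  choose L iL iLR hLe iLg hLT ψ hLeg hLf hψ hker using fun i => exists_away_lift I hI (g i) (S₀ i)
  letI : ∀ i, CommRing (L i) := iL
  letI : ∀ i, Algebra R (L i) := iLR
  letI : ∀ i, Algebra (Localization.Away (g i)) (L i) := iLg
  haveI : ∀ i, IsScalarTower R (Localization.Away (g i)) (L i) := hLT
  haveI : ∀ i, Module.Flat R (L i) := fun i => by
    haveI := hLe i
    exact Algebra.Smooth.flat R (L i)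
  haveI : ∀ i, Module.FaithfullyFlat (Localization.Away (g i)) (L i) := hLf
  haveI : ∀ i, Module.Flat (R ⧸ I) (S₀ i) := fun i =>
    Module.Flat.trans (R ⧸ I) (Localization.Away (Ideal.Quotient.mk I (g i))) (S₀ i)
  have hspan₀ : Ideal.span (Set.range fun i : ι => Ideal.Quotient.mk I (g i)) = ⊤ := by
    refine top_le_iff.mp (ht.ge.trans (Ideal.span_le.mpr fun x hx => Ideal.subset_span ⟨⟨x, hx⟩, hg _⟩))
  have hspan : Ideal.span (Set.range g) = ⊤ := by
    refine top_le_iff.mp ((span_preimage_eq_top hI hspan₀).ge.trans ?_)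
    refine Ideal.span_le.mpr ?_
    rintro x ⟨i, hx⟩
    have h1 : x - g i ∈ I := Ideal.Quotient.eq.mp hx.symm
    have htop : Ideal.span (Set.range g) ⊔ I = ⊤ := by
      rw [← Ideal.mk_ker (I := I), ← Ideal.comap_map_of_surjective' _ Ideal.Quotient.mk_surjective, Ideal.map_span,
        ← Set.range_comp]
      show Ideal.comap _ (Ideal.span (Set.range fun i : ι => Ideal.Quotient.mk I (g i))) = ⊤
      rw [hspan₀, Ideal.comap_top]
    obtain ⟨a, ha, b, hb, hab⟩ := Submodule.mem_sup.mp ((Ideal.eq_top_iff_one _).mp htop)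
    have hu : IsUnit a := by
      rw [eq_sub_of_add_eq hab, sub_eq_add_neg]
      exact (hI b hb).neg.isUnit_one_add
    rw [SetLike.mem_coe, Ideal.eq_top_of_isUnit_mem _ ha hu]
    trivial
  haveI := faithfullyFlat_pi g hspan L
  haveI := faithfullyFlat_pi (R := R ⧸ I) (fun i => Ideal.Quotient.mk I (g i)) hspan₀ S₀
  obtain ⟨r₀, hr₀⟩ := exists_retract (R := R ⧸ I) (A := A₀) M e
  let F : (Π i, L i) →ₐ[R] (Π i, S₀ i) := AlgHom.pi fun i => (ψ i).comp (Pi.evalAlgHom R L i)
  have hFs : Function.Surjective F := fun y => ⟨fun i => (hψ i (y i)).choose, funext fun i => (hψ i (y i)).choose_spec⟩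
  have hFk : RingHom.ker F ≤ I.map (algebraMap R (Π i, L i)) := by
    intro x hx
    have hx' : ∀ i, x i ∈ I.map (algebraMap R (L i)) := fun i => by
      rw [← hker i]; exact congrFun hx i
    rw [← Finset.univ_sum_single x]
    refine sum_mem fun i _ => ?_
    have h1 : x i ∈ I • (⊤ : Submodule R (L i)) := by rw [Ideal.smul_top_eq_map]; exact hx' i
    have h2 := map_mem_of_mem_smul (LinearMap.single R L i) h1
    rw [Ideal.smul_top_eq_map] at h2
    exact h2
  obtain ⟨A, _, _, r, hrπ, hiso⟩ := exists_lift I r₀ F hFs hFk (fun T _ _ _ => bijOn_idempotents_of_nil hI T)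
  refine ⟨A, inferInstance, inferInstance, ⟨Set.range g, hspan, ?_⟩, hiso⟩
  rintro _ ⟨i, rfl⟩
  have hred : Red (ψ i) := red_of_bijOn I (ψ i) (hψ i) (hker i).le (bijOn_idempotents_of_nil hI (L i))
  have hdiag : Nonempty ((L i ⊗[R] A) ≃ₐc[L i] MonoidAlgebra (L i) (M i)) := by
    refine exists_diag_component r (Pi.evalAlgHom R L i) (Pi.evalMonoidHom M i) (MonoidHom.mulSingle M i)
      (fun n => Pi.mulSingle_eq_same (M := M) i n) fun m => ?_
    refine hred.groupLike_eq (groupLike_coeffGroup _ ((r.p_gl m).map r.q))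
      (⟨by simp, by simp⟩ : IsGroupLikeElem (L i) (MonoidAlgebra.single _ (1 : L i))) ?_
    rw [coeffGroup_comp, show (ψ i).comp (Pi.evalAlgHom R L i) = (Pi.evalAlgHom R S₀ i).comp F from rfl, ← coeffGroup_comp,
      hrπ, coeffGroup_single, map_one]
    exact hr₀ i m
  obtain ⟨E⟩ := hdiag
  obtain ⟨T, -⟩ := exists_towerEquiv R (Localization.Away (g i)) (L i) A
  exact ⟨L i, inferInstance, inferInstance, hLeg i, hLf i, M i, inferInstance, ⟨T.symm.trans E⟩⟩

set_option synthInstance.maxHeartbeats 200000 in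
set_option maxHeartbeats 1600000 in
/-- Isotrivial groups lift along a henselian ideal. -/
theorem exists_isotrivial (I : Ideal R) [HenselianRing R I] (A₀ : Type u) [CommRing A₀] [HopfAlgebra (R ⧸ I) A₀]
    (h0 : SGA3b.IsIsotrivial (R ⧸ I) A₀) :
    ∃ (A : Type u) (_ : CommRing A) (_ : HopfAlgebra R A), SGA3b.IsIsotrivial R A ∧
      Nonempty (((R ⧸ I) ⊗[R] A) ≃ₐc[R ⧸ I] A₀) := by
  obtain ⟨S₀, _, _, _, _, hff₀, M, _, ⟨e⟩⟩ := h0
  haveI := hff₀
  obtain ⟨B, _, _, hBfin, hBe, ⟨j⟩⟩ := Lib.Henselian.FiniteEtale.exists_finite_etale_lift I S₀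
  haveI := hBfin
  haveI := hBe
  letI : Algebra R S₀ := ((algebraMap (R ⧸ I) S₀).comp (Ideal.Quotient.mk I)).toAlgebra
  haveI : IsScalarTower R (R ⧸ I) S₀ := IsScalarTower.of_algebraMap_eq fun _ => rfl
  let f : B →ₐ[R] S₀ := (j.toAlgHom.restrictScalars R).comp Algebra.TensorProduct.includeRight
  have hf : Function.Surjective f := fun y => by
    obtain ⟨b, hb⟩ := TensorProduct.mk_surjective R B (R ⧸ I) Ideal.Quotient.mk_surjective (j.symm y)
    refine ⟨b, ?_⟩
    show j ((1 : R ⧸ I) ⊗ₜ[R] b) = y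
    rw [show (1 : R ⧸ I) ⊗ₜ[R] b = j.symm y from hb, AlgEquiv.apply_symm_apply]
  have hker : RingHom.ker f ≤ I.map (algebraMap R B) := fun b hb => by
    refine mem_map_of_one_tmul_eq_zero I ?_
    apply j.injective
    rw [map_zero]
    exact hb
  haveI : Module.Flat R B := Algebra.Smooth.flat R B
  haveI hff : Module.FaithfullyFlat R B := by
    refine ⟨fun {m} hm => ?_⟩
    intro htop
    have hIm : I ≤ m := HenselianRing.jac.trans (sInf_le ⟨bot_le, hm⟩)
    obtain ⟨q, hq⟩ := PrimeSpectrum.comap_surjective_of_faithfullyFlat (A := R ⧸ I) (B := S₀)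
      ⟨m.map (Ideal.Quotient.mk I), Ideal.map_isPrime_of_surjective Ideal.Quotient.mk_surjective
        (by rw [Ideal.mk_ker]; exact hIm) (H := hm.isPrime)⟩
    have h1 : m.map (algebraMap R B) ≤ q.asIdeal.comap f := by
      refine Ideal.map_le_iff_le_comap.mpr fun x hx => ?_
      show f (algebraMap R B x) ∈ q.asIdeal
      rw [AlgHom.commutes, IsScalarTower.algebraMap_apply R (R ⧸ I) S₀]
      have : algebraMap R (R ⧸ I) x ∈ (PrimeSpectrum.comap (algebraMap (R ⧸ I) S₀) q).asIdeal := by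
        rw [hq]; exact Ideal.mem_map_of_mem _ hx
      exact this
    have h2 : m.map (algebraMap R B) = ⊤ := by
      rw [Ideal.smul_top_eq_map] at htop
      rwa [Submodule.restrictScalars_eq_top_iff] at htop
    rw [h2, top_le_iff] at h1
    exact q.2.ne_top (Ideal.comap_eq_top_iff.mp h1)
  have hbij : ∀ (T : Type u) [CommRing T] [Algebra R T], (Nonempty (T ≃ₐ[R] B) ∨ Nonempty (T ≃ₐ[R] B ⊗[R] B) ∨
      Nonempty (T ≃ₐ[R] B ⊗[R] (B ⊗[R] B))) →
      Set.BijOn (Ideal.Quotient.mk (I.map (algebraMap R T))) {e : T | IsIdempotentElem e} {e | IsIdempotentElem e} := by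
    intro T _ _ hT
    haveI : Module.Finite R T := by
      rcases hT with ⟨⟨i⟩⟩ | ⟨⟨i⟩⟩ | ⟨⟨i⟩⟩ <;> exact Module.Finite.equiv i.symm.toLinearEquiv
    exact Lib.Henselian.Pair.idempotents_bijOn I T
  obtain ⟨A, _, _, r, hrπ, hiso⟩ := exists_lift I (retractOfDiag e) f hf hker hbij
  refine ⟨A, inferInstance, inferInstance, ⟨B, inferInstance, inferInstance, hBe, hBfin, hff, M, inferInstance, ?_⟩, hiso⟩
  refine exists_diag_component r (AlgHom.id R B) (MonoidHom.id M) (MonoidHom.id M) (fun _ => rfl) fun m => ?_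
  have hred : Red f := red_of_bijOn I f hf hker (hbij B (Or.inl ⟨AlgEquiv.refl⟩))
  rw [coeffGroup_id]
  refine hred.groupLike_eq ((r.p_gl m).map r.q) (⟨by simp, by simp⟩ : IsGroupLikeElem B (MonoidAlgebra.single _ (1 : B))) ?_
  rw [hrπ, coeffGroup_single, map_one]
  exact e.apply_symm_apply _

end Groth.Agent.H83.LiftGrp
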