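import Groth.Agent.H83.LiftGrp.Retract
import Groth.Agent.Lib.FFDesc.Algebra

/-! The group obtained by descending a retract of a diagonalisable group. -/

set_option autoImplicit false

universe u

open TensorProduct

namespace Groth.Agent.H83.LiftGrp

open Groth.Agent.H83.MultType

/-- A retract of `D(M)` over `S` with a descent datum. -/
structure Twist (R : Type u) [CommRing R] (S : Type u) [CommRing S] [Algebra R S] (M : Type u) [CommGroup M] where
  π : M →* MonoidAlgebra S M
  π_gl : IsGL π
  π_idem : comp π π = π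
  γ : M →* MonoidAlgebra (S ⊗[R] S) M
  γ_gl : IsGL γ
  left : comp γ (push (Algebra.TensorProduct.includeLeft : S →ₐ[R] S ⊗[R] S) π) = γ
  right : comp (push (Algebra.TensorProduct.includeRight : S →ₐ[R] S ⊗[R] S) π) γ = γ
  diag : push (Algebra.TensorProduct.lmul' R : S ⊗[R] S →ₐ[R] S) γ = π
  cocycle : comp (push (Algebra.TensorProduct.includeRight : S ⊗[R] S →ₐ[R] S ⊗[R] (S ⊗[R] S)) γ)
      (push (Algebra.TensorProduct.map (AlgHom.id R S) (Algebra.TensorProduct.includeLeft : S →ₐ[R] S ⊗[R] S)) γ) =
      push (Algebra.TensorProduct.map (AlgHom.id R S) (Algebra.TensorProduct.includeRight : S →ₐ[R] S ⊗[R] S)) γ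

variable {R : Type u} [CommRing R] {S : Type u} [CommRing S] [Algebra R S] {M : Type u} [CommGroup M]

/-- An element of `S ⊗ Q` equalised by both inclusions comes from `Q`. -/
theorem exists_desc [Module.FaithfullyFlat R S] {Q : Type u} [AddCommGroup Q] [Module R Q] (z : S ⊗[R] Q)
    (h : (Algebra.TensorProduct.includeLeft : S →ₐ[R] S ⊗[R] S).toLinearMap.rTensor Q z =
      (Algebra.TensorProduct.includeRight : S →ₐ[R] S ⊗[R] S).toLinearMap.rTensor Q z) :
    ∃ q : Q, (1 : S) ⊗ₜ[R] q = z := by
  let W := LinearMap.range (TensorProduct.mk R S Q 1)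
  let χ : (S ⊗[R] S) ⊗[R] Q →ₗ[R] S ⊗[R] ((S ⊗[R] Q) ⧸ W) :=
    TensorProduct.map LinearMap.id W.mkQ ∘ₗ (TensorProduct.assoc R S S Q).toLinearMap
  have h1 : ∀ w : S ⊗[R] Q, χ ((Algebra.TensorProduct.includeLeft : S →ₐ[R] S ⊗[R] S).toLinearMap.rTensor Q w) = 0 := by
    intro w
    induction w using TensorProduct.induction_on with
    | zero => simp
    | add a b ha hb => simp only [map_add, ha, hb, add_zero]
    | tmul s q =>
      show s ⊗ₜ[R] W.mkQ ((1 : S) ⊗ₜ[R] q) = 0
      rw [Submodule.mkQ_apply, show Submodule.Quotient.mk ((1 : S) ⊗ₜ[R] q) = (0 : (S ⊗[R] Q) ⧸ W) from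
        (Submodule.Quotient.mk_eq_zero W).mpr ⟨q, rfl⟩, TensorProduct.tmul_zero]
  have h2 : ∀ w : S ⊗[R] Q, χ ((Algebra.TensorProduct.includeRight : S →ₐ[R] S ⊗[R] S).toLinearMap.rTensor Q w) =
      (1 : S) ⊗ₜ[R] W.mkQ w := by
    intro w
    induction w using TensorProduct.induction_on with
    | zero => simp
    | add a b ha hb => simp only [map_add, TensorProduct.tmul_add, ha, hb]
    | tmul s q => simp [χ]
  have h3 : (1 : S) ⊗ₜ[R] W.mkQ z = 0 := by rw [← h2, ← h, h1]
  rw [Module.FaithfullyFlat.one_tmul_eq_zero_iff, Submodule.mkQ_apply, Submodule.Quotient.mk_eq_zero] at h3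
  exact h3

/-- The inversion of a group algebra. -/
noncomputable def inv' (T : Type u) [CommRing T] (M : Type u) [CommGroup M] : MonoidAlgebra T M →ₐ[T] MonoidAlgebra T M :=
  MonoidAlgebra.mapDomainAlgHom T T (invMonoidHom : M →* M)

theorem inv'_mul {T : Type u} [CommRing T] {M : Type u} [CommGroup M] (y : MonoidAlgebra T M) :
    LinearMap.mul' T _ (TensorProduct.map (inv' T M).toLinearMap LinearMap.id (CoalgebraStruct.comul (R := T) y)) =
      algebraMap T _ (CoalgebraStruct.counit (R := T) y) := by
  induction y using MonoidAlgebra.induction_linear with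
  | zero => simp
  | add a b ha hb => simp only [map_add, ha, hb]
  | single m r => simp [inv', MonoidAlgebra.single_mul_single]

theorem mul_inv' {T : Type u} [CommRing T] {M : Type u} [CommGroup M] (y : MonoidAlgebra T M) :
    LinearMap.mul' T _ (TensorProduct.map LinearMap.id (inv' T M).toLinearMap (CoalgebraStruct.comul (R := T) y)) =
      algebraMap T _ (CoalgebraStruct.counit (R := T) y) := by
  induction y using MonoidAlgebra.induction_linear with
  | zero => simp
  | add a b ha hb => simp only [map_add, ha, hb]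
  | single m r => simp [inv', MonoidAlgebra.single_mul_single]

theorem ext1_inv' {T : Type u} [CommRing T] {M N : Type u} [CommGroup M] [CommGroup N] {g : M →* MonoidAlgebra T N}
    (hg : IsGL g) (y : MonoidAlgebra T M) : ext1 g (inv' T M y) = inv' T N (ext1 g y) := by
  induction y using MonoidAlgebra.induction_linear with
  | zero => simp
  | add a b ha hb => simp only [map_add, ha, hb]
  | single m r =>
    rw [ext1_single, map_smul, show inv' T M (MonoidAlgebra.single m r) = MonoidAlgebra.single m⁻¹ r by simp [inv'],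
      ext1_single]
    congr 1
    have h1 : inv' T N (g m) * g m = 1 := by
      have h := inv'_mul (g m)
      rw [(hg m).comul_eq_tmul_self, (hg m).counit_eq_one, map_one] at h
      simpa using h
    calc g m⁻¹ = (inv' T N (g m) * g m) * g m⁻¹ := by rw [h1, one_mul]
      _ = inv' T N (g m) := by rw [mul_assoc, ← map_mul, mul_inv_cancel, map_one, mul_one]

theorem inv'_coeffGroup {T T' : Type u} [CommRing T] [Algebra R T] [CommRing T'] [Algebra R T'] (f : T →ₐ[R] T')
    (y : MonoidAlgebra T M) : coeffGroup f M (inv' T M y) = inv' T' M (coeffGroup f M y) := by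
  induction y using MonoidAlgebra.induction_linear with
  | zero => simp
  | add a b ha hb => simp only [map_add, ha, hb]
  | single m r => simp [inv', coeffGroup_single]

set_option synthInstance.maxHeartbeats 400000 in
set_option maxSynthPendingDepth 4 in
set_option maxHeartbeats 3200000 in
/-- Descent of a retract of a diagonalisable group. -/
theorem Twist.exists_descent [Module.FaithfullyFlat R S] (D : Twist R S M) :
    ∃ (A : Type u) (_ : CommRing A) (_ : HopfAlgebra R A) (r : Retract R A S M),
      (∀ m, r.q (r.p m) = D.π m) ∧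
        ∀ a, ext1 D.γ (coeffGroup (Algebra.TensorProduct.includeLeft : S →ₐ[R] S ⊗[R] S) M (r.φ a)) =
          coeffGroup (Algebra.TensorProduct.includeRight : S →ₐ[R] S ⊗[R] S) M (r.φ a) := by
  classical
  let i₁ : S →ₐ[R] S ⊗[R] S := Algebra.TensorProduct.includeLeft
  let i₂ : S →ₐ[R] S ⊗[R] S := Algebra.TensorProduct.includeRight
  let μ₂ : S ⊗[R] S →ₐ[R] S := Algebra.TensorProduct.lmul' R
  have hμ₁ : μ₂.comp i₁ = AlgHom.id R S := AlgHom.ext fun s => by simp [μ₂, i₁]
  have hμ₂ : μ₂.comp i₂ = AlgHom.id R S := AlgHom.ext fun s => by simp [μ₂, i₂]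
  -- the coordinate ring over `S`
  let A' : Subalgebra S (MonoidAlgebra S M) := AlgHom.equalizer (ext1 D.π) (AlgHom.id S _)
  have hfix : ∀ y, ext1 D.π (ext1 D.π y) = ext1 D.π y := fun y => by rw [← ext1_comp, D.π_idem]
  let P : MonoidAlgebra S M →ₐ[S] A' := (ext1 D.π).codRestrict A' hfix
  have hP : ∀ y, (P y : MonoidAlgebra S M) = ext1 D.π y := fun y => rfl
  have hPA : ∀ x : A', P (x : MonoidAlgebra S M) = x := fun x => Subtype.ext x.2
  let cS : S →ₐ[R] A' := (Algebra.ofId S A').restrictScalars R
  let ι₁ : MonoidAlgebra (S ⊗[R] S) M →+* S ⊗[R] A' :=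
    MonoidAlgebra.liftNCRingHom (Algebra.TensorProduct.map (AlgHom.id R S) cS).toRingHom
      ((Algebra.TensorProduct.includeRight : A' →ₐ[R] S ⊗[R] A').toMonoidHom.comp
        (P.toMonoidHom.comp (MonoidAlgebra.of S M)))
      (fun _ _ => by exact Commute.all _ _)
  have hι₁ : ∀ (m : M) (t : S ⊗[R] S), ι₁ (MonoidAlgebra.single m t) =
      Algebra.TensorProduct.map (AlgHom.id R S) cS t * ((1 : S) ⊗ₜ[R] P (MonoidAlgebra.single m 1)) := fun m t => by
    simp [ι₁, MonoidAlgebra.liftNCRingHom]
  have hι₁s : ∀ (t : S ⊗[R] S) (y : MonoidAlgebra (S ⊗[R] S) M), ι₁ (t • y) = Algebra.TensorProduct.map (AlgHom.id R S) cS t * ι₁ y := by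
    intro t y
    induction y using MonoidAlgebra.induction_linear with
    | zero => simp
    | add a b ha hb => simp only [smul_add, map_add, mul_add, ha, hb]
    | single m r => rw [MonoidAlgebra.smul_single, smul_eq_mul, hι₁, hι₁, map_mul, mul_assoc]
  let θ : A' →ₐ[R] S ⊗[R] A' :=
    { ι₁.comp ((ext1 D.γ).toRingHom.comp ((coeffGroup i₁ M).comp (A'.val.toRingHom))) with
      commutes' := fun x => by
        show ι₁ (ext1 D.γ (coeffGroup i₁ M (algebraMap R (MonoidAlgebra S M) x))) = _
        rw [MonoidAlgebra.coe_algebraMap, Function.comp_apply, coeffGroup_single, AlgHom.commutes, ext1_single, map_one,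
          hι₁s, map_one, mul_one, AlgHom.commutes] }
  have hθ : ∀ x : A', θ x = ι₁ (ext1 D.γ (coeffGroup i₁ M (x : MonoidAlgebra S M))) := fun x => rfl
  -- the unit
  have hunit : ∀ s : S, θ (algebraMap S A' s) = s ⊗ₜ[R] (1 : A') := by
    intro s
    rw [hθ, show ((algebraMap S A' s : A') : MonoidAlgebra S M) = MonoidAlgebra.single 1 s by
      rw [Subalgebra.coe_algebraMap]; simp, coeffGroup_single, ext1_single, map_one, hι₁s, map_one, mul_one]
    simp [i₁, cS]
  -- the counit
  have hμι : ∀ y, Lib.FFDesc.mulAct (R := R) (ι₁ y) = P (coeffGroup μ₂ M y) := by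
    intro y
    induction y using MonoidAlgebra.induction_linear with
    | zero => simp
    | add a b ha hb => simp only [map_add, ha, hb]
    | single m t =>
      have hsm : MonoidAlgebra.single m (μ₂ t) = μ₂ t • MonoidAlgebra.single m (1 : S) := by
        rw [MonoidAlgebra.smul_single, smul_eq_mul, mul_one]
      rw [hι₁, map_mul, coeffGroup_single, hsm, map_smul, Algebra.smul_def]
      congr 1
      · clear hsm
        induction t using TensorProduct.induction_on with
        | zero => simp
        | add a b ha hb => simp only [map_add, ha, hb]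
        | tmul a b => simp [μ₂, cS, Lib.FFDesc.mulAct]
      · simp [Lib.FFDesc.mulAct]
  have hcounit : ∀ x, Lib.FFDesc.mulAct (R := R) (θ x) = x := by
    intro x
    rw [hθ, hμι, coeffGroup_ext1, coeffGroup_comp, hμ₁, coeffGroup_id, D.diag]
    exact Subtype.ext ((hfix _).trans x.2)
  -- the cocycle
  let j₁₂ : S ⊗[R] S →ₐ[R] S ⊗[R] (S ⊗[R] S) := Algebra.TensorProduct.map (AlgHom.id R S) i₁
  let j₂₃ : S ⊗[R] S →ₐ[R] S ⊗[R] (S ⊗[R] S) := Algebra.TensorProduct.includeRight
  let j₁₃ : S ⊗[R] S →ₐ[R] S ⊗[R] (S ⊗[R] S) := Algebra.TensorProduct.map (AlgHom.id R S) i₂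
  let ι₂ : MonoidAlgebra (S ⊗[R] (S ⊗[R] S)) M →+* S ⊗[R] (S ⊗[R] A') :=
    MonoidAlgebra.liftNCRingHom (Algebra.TensorProduct.map (AlgHom.id R S) (Algebra.TensorProduct.map (AlgHom.id R S) cS)).toRingHom
      (((Algebra.TensorProduct.includeRight : S ⊗[R] A' →ₐ[R] S ⊗[R] (S ⊗[R] A')).comp
        (Algebra.TensorProduct.includeRight : A' →ₐ[R] S ⊗[R] A')).toMonoidHom.comp (P.toMonoidHom.comp (MonoidAlgebra.of S M)))
      (fun _ _ => by exact mul_comm _ _)
  have hι₂ : ∀ (m : M) (t : S ⊗[R] (S ⊗[R] S)), ι₂ (MonoidAlgebra.single m t) =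
      Algebra.TensorProduct.map (AlgHom.id R S) (Algebra.TensorProduct.map (AlgHom.id R S) cS) t *
        ((1 : S) ⊗ₜ[R] ((1 : S) ⊗ₜ[R] P (MonoidAlgebra.single m 1))) := fun m t => by
    simp [ι₂, MonoidAlgebra.liftNCRingHom]
  have hι₂s : ∀ (t : S ⊗[R] (S ⊗[R] S)) (y : MonoidAlgebra (S ⊗[R] (S ⊗[R] S)) M), ι₂ (t • y) =
      Algebra.TensorProduct.map (AlgHom.id R S) (Algebra.TensorProduct.map (AlgHom.id R S) cS) t * ι₂ y := by
    intro t y
    induction y using MonoidAlgebra.induction_linear with
    | zero => simp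
    | add a b ha hb => simp only [smul_add, map_add, mul_add, ha, hb]
    | single m r => rw [MonoidAlgebra.smul_single, smul_eq_mul, hι₂, hι₂, map_mul, mul_assoc]
  have hj₂₃ : ∀ y, ι₂ (coeffGroup j₂₃ M y) = (1 : S) ⊗ₜ[R] ι₁ y := by
    intro y
    induction y using MonoidAlgebra.induction_linear with
    | zero => simp
    | add a b ha hb => simp only [map_add, TensorProduct.tmul_add, ha, hb]
    | single m t =>
      rw [coeffGroup_single, hι₂, hι₁]
      simp [j₂₃]
  have hinner : ∀ m : M, θ (P (MonoidAlgebra.single m 1)) = ι₁ (D.γ m) := by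
    intro m
    rw [hθ, hP, ext1_single, one_smul, ← push_apply, ← comp_apply, D.left]
  have hθj : ∀ y, LinearMap.lTensor S θ.toLinearMap (ι₁ y) = ι₂ (ext1 (push j₂₃ D.γ) (coeffGroup j₁₂ M y)) := by
    intro y
    induction y using MonoidAlgebra.induction_linear with
    | zero => simp
    | add a b ha hb => simp only [map_add, ha, hb]
    | single m t =>
      rw [coeffGroup_single, ext1_single, hι₂s, push_apply, hj₂₃, hι₁]
      induction t using TensorProduct.induction_on with
      | zero => simp
      | add a b ha hb => simp only [map_add, add_mul, ha, hb]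
      | tmul a b =>
        simp only [j₁₂, Algebra.TensorProduct.map_tmul, AlgHom.id_apply, i₁, Algebra.TensorProduct.includeLeft_apply,
          map_one, Algebra.TensorProduct.tmul_mul_tmul, mul_one, one_mul, LinearMap.lTensor_tmul, AlgHom.toLinearMap_apply,
          map_mul, hinner]
        congr 2
        exact hunit b
  have hincl : ∀ y, LinearMap.lTensor S (Algebra.TensorProduct.includeRight : A' →ₐ[R] S ⊗[R] A').toLinearMap (ι₁ y) =
      ι₂ (coeffGroup j₁₃ M y) := by
    intro y
    induction y using MonoidAlgebra.induction_linear with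
    | zero => simp
    | add a b ha hb => simp only [map_add, ha, hb]
    | single m t =>
      rw [coeffGroup_single, hι₂, hι₁]
      induction t using TensorProduct.induction_on with
      | zero => simp
      | add a b ha hb => simp only [map_add, add_mul, ha, hb]
      | tmul a b => simp [j₁₃, i₂]
  have hj : j₁₂.comp i₁ = j₁₃.comp i₁ := AlgHom.ext fun s => by simp [j₁₂, j₁₃, i₁, i₂]
  have hco : ∀ x, LinearMap.lTensor S θ.toLinearMap (θ x) =
      LinearMap.lTensor S (Algebra.TensorProduct.includeRight : A' →ₐ[R] S ⊗[R] A').toLinearMap (θ x) := by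
    intro x
    rw [hθ, hθj, hincl, coeffGroup_ext1, coeffGroup_comp, coeffGroup_ext1, coeffGroup_comp, ← ext1_comp, D.cocycle, hj]
  have hbij := Lib.FFDesc.bijective_baseChangeInvariants θ hunit hcounit hco
  let A : Subalgebra R A' := Lib.FFDesc.invariants θ
  let Eq : S ⊗[R] A ≃ₐ[S] A' := AlgEquiv.ofBijective (Lib.FFDesc.baseChangeInvariants θ) hbij
  let φ : A →ₐ[R] MonoidAlgebra S M := (A'.val.restrictScalars R).comp A.val
  have hEq : ∀ (s : S) (a : A), ((Eq (s ⊗ₜ[R] a) : A') : MonoidAlgebra S M) = s • φ a := fun s a => by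
    show ((Lib.FFDesc.baseChangeInvariants θ (s ⊗ₜ[R] a) : A') : MonoidAlgebra S M) = _
    simp [φ, Algebra.smul_def]
  let p : M →* S ⊗[R] A := Eq.symm.toAlgHom.toMonoidHom.comp (P.toMonoidHom.comp (MonoidAlgebra.of S M))
  have hEp : ∀ y, ext1 p y = Eq.symm (P y) := by
    intro y
    induction y using MonoidAlgebra.induction_linear with
    | zero => simp
    | add a b ha hb => simp only [map_add, ha, hb]
    | single m s =>
      rw [ext1_single, show MonoidAlgebra.single m s = s • MonoidAlgebra.single m (1 : S) by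
        rw [MonoidAlgebra.smul_single, smul_eq_mul, mul_one], map_smul, map_smul]
      rfl
  have hpφ : ∀ a : A, ext1 p (φ a) = (1 : S) ⊗ₜ[R] a := fun a => by
    apply Eq.injective
    rw [hEp, AlgEquiv.apply_symm_apply]
    refine Subtype.ext ?_
    rw [hEq, one_smul, hP]
    exact a.1.2
  -- the invariance of `A`
  let L₁ : S ⊗[R] A' →ₐ[R] MonoidAlgebra (S ⊗[R] S) M :=
    Algebra.TensorProduct.lift ((IsScalarTower.toAlgHom R (S ⊗[R] S) _).comp i₁)
      { (coeffGroup i₂ M).comp A'.val.toRingHom with
        commutes' := fun x => by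
          show coeffGroup i₂ M (algebraMap R (MonoidAlgebra S M) x) = _
          rw [MonoidAlgebra.coe_algebraMap, MonoidAlgebra.coe_algebraMap, Function.comp_apply,
            Function.comp_apply, coeffGroup_single, AlgHom.commutes] }
      (fun _ _ => by exact Commute.all _ _)
  have hL₁ : ∀ y, L₁ (ι₁ y) = ext1 (push i₂ D.π) y := by
    intro y
    induction y using MonoidAlgebra.induction_linear with
    | zero => simp
    | add a b ha hb => simp only [map_add, ha, hb]
    | single m t =>
      rw [hι₁, map_mul, ext1_single, Algebra.smul_def]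
      congr 1
      · induction t using TensorProduct.induction_on with
        | zero => simp
        | add a b ha hb => simp only [map_add, ha, hb]
        | tmul a b =>
          simp [L₁, cS, i₁, i₂, coeffGroup_single, MonoidAlgebra.single_mul_single]
      · simp [L₁, push_apply, hP, ext1_single, ← MonoidAlgebra.one_def]
  have hinv : ∀ a : A, ext1 D.γ (coeffGroup i₁ M (φ a)) = coeffGroup i₂ M (φ a) := by
    intro a
    have h1 : ι₁ (ext1 D.γ (coeffGroup i₁ M (φ a))) = (1 : S) ⊗ₜ[R] (a : A') := (hθ a.1).symm.trans a.2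
    have h2 := congrArg L₁ h1
    rw [hL₁, ← ext1_comp, D.right] at h2
    rw [h2]
    simp [L₁, φ, ← MonoidAlgebra.one_def]
  -- the counit
  have hcounitA : ∀ a : A, ∃ x : R, algebraMap R S x = CoalgebraStruct.counit (R := S) (φ a) := by
    intro a
    let c := CoalgebraStruct.counit (R := S) (φ a)
    have h1 : i₁ c = i₂ c := by
      have h := congrArg (CoalgebraStruct.counit (R := S ⊗[R] S)) (hinv a)
      rw [← bialg_apply D.γ D.γ_gl, CoalgHomClass.counit_comp_apply, coeffGroup_counit, coeffGroup_counit] at h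
      exact h
    obtain ⟨x, hx⟩ := exists_desc (R := R) (S := S) (Q := R) (c ⊗ₜ[R] (1 : R)) (by simp only [LinearMap.rTensor_tmul, AlgHom.toLinearMap_apply]; rw [h1])
    refine ⟨x, ?_⟩
    have := congrArg (TensorProduct.rid R S) hx
    simpa [Algebra.algebraMap_eq_smul_one] using this
  choose εf hεf using hcounitA
  have hinjR : Function.Injective (algebraMap R S) := by
    rw [injective_iff_map_eq_zero]
    intro x hx
    refine (Module.FaithfullyFlat.one_tmul_eq_zero_iff (R := R) (A := S) _ x).mp ?_
    apply (TensorProduct.rid R S).injective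
    simpa [Algebra.algebraMap_eq_smul_one] using hx
  let ε : A →ₐ[R] R :=
    { toFun := εf
      map_one' := hinjR (by rw [hεf, map_one, Bialgebra.counit_one, map_one])
      map_mul' := fun a b => hinjR (by rw [hεf, map_mul (algebraMap R S), hεf, hεf, map_mul, Bialgebra.counit_mul])
      map_zero' := hinjR (by rw [hεf, map_zero, map_zero, map_zero])
      map_add' := fun a b => hinjR (by rw [hεf, map_add (algebraMap R S), hεf, hεf, map_add, map_add])
      commutes' := fun x => hinjR (by
        rw [hεf, AlgHom.commutes, IsScalarTower.algebraMap_apply R S (MonoidAlgebra S M), ← Bialgebra.counitAlgHom_apply,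
          AlgHom.commutes]
        simp) }
  have hε : ∀ a, algebraMap R S (ε a) = CoalgebraStruct.counit (R := S) (φ a) := hεf
  -- the comultiplication
  let κ : A ⊗[R] A →ₐ[R] MonoidAlgebra S M ⊗[S] MonoidAlgebra S M :=
    Algebra.TensorProduct.productMap ((Algebra.TensorProduct.includeLeft (S := R)).comp φ)
      (((Algebra.TensorProduct.includeRight : MonoidAlgebra S M →ₐ[S] MonoidAlgebra S M ⊗[S] MonoidAlgebra S M).restrictScalars R).comp φ)
  have hκ : ∀ a b : A, κ (a ⊗ₜ[R] b) = φ a ⊗ₜ[S] φ b := fun a b => by simp [κ]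
  let Λ : MonoidAlgebra S M ⊗[S] MonoidAlgebra S M →ₐ[S] S ⊗[R] (A ⊗[R] A) :=
    Algebra.TensorProduct.lift
      ((Algebra.TensorProduct.map (AlgHom.id S S) (Algebra.TensorProduct.includeLeft : A →ₐ[R] A ⊗[R] A)).comp (ext1 p))
      ((Algebra.TensorProduct.map (AlgHom.id S S) (Algebra.TensorProduct.includeRight : A →ₐ[R] A ⊗[R] A)).comp (ext1 p))
      (fun _ _ => by exact Commute.all _ _)
  have hΛ : ∀ z, Λ (κ z) = (1 : S) ⊗ₜ[R] z := by
    intro z
    induction z using TensorProduct.induction_on with
    | zero => simp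
    | add a b ha hb => simp only [map_add, TensorProduct.tmul_add, ha, hb]
    | tmul a b => simp [hκ, Λ, hpφ]
  have hone : ∀ (Q : Type u) [AddCommGroup Q] [Module R Q], Function.Injective fun x : Q => (1 : S) ⊗ₜ[R] x := by
    intro Q _ _ x y hxy
    rw [← sub_eq_zero]
    refine (Module.FaithfullyFlat.one_tmul_eq_zero_iff (R := R) (A := S) _ (x - y)).mp ?_
    rw [TensorProduct.tmul_sub, sub_eq_zero]
    exact hxy
  have hκinj : Function.Injective κ := fun x y hxy => hone _ (by simpa [hΛ] using congrArg Λ hxy)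
  let Ψ : S ⊗[R] (A ⊗[R] A) →ₐ[S] MonoidAlgebra S M ⊗[S] MonoidAlgebra S M :=
    Algebra.TensorProduct.lift (Algebra.ofId S _) κ (fun _ _ => by exact Commute.all _ _)
  have hΨ : ∀ (s : S) (z : A ⊗[R] A), Ψ (s ⊗ₜ[R] z) = s • κ z := fun s z => by simp [Ψ, Algebra.smul_def]
  have hmem : ∀ a : A, ∃ z, κ z = CoalgebraStruct.comul (R := S) (φ a) := by
    intro a
    obtain ⟨z, hz⟩ : ∃ z, Ψ z = CoalgebraStruct.comul (R := S) (φ a) := by
      have h0 : φ a = ext1 D.π (φ a) := a.1.2.symm
      rw [h0, ← bialg_apply D.π D.π_gl, ← CoalgHomClass.map_comp_comul_apply]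
      generalize CoalgebraStruct.comul (R := S) (φ a) = w
      induction w using TensorProduct.induction_on with
      | zero => exact ⟨0, by simp⟩
      | add b c hb hc =>
        obtain ⟨x, hx⟩ := hb; obtain ⟨y, hy⟩ := hc
        exact ⟨x + y, by rw [map_add, map_add, hx, hy]⟩
      | tmul b c =>
        obtain ⟨b', hb'⟩ := hbij.2 (P b)
        obtain ⟨c', hc'⟩ := hbij.2 (P c)
        have hlift : ∀ (x : S ⊗[R] A) (y : S ⊗[R] A), ∃ z, Ψ z = ((Eq x : A') : MonoidAlgebra S M) ⊗ₜ[S] ((Eq y : A') : MonoidAlgebra S M) := by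
          intro x y
          induction x using TensorProduct.induction_on with
          | zero => exact ⟨0, by simp⟩
          | add u v hu hv =>
            obtain ⟨x', hx'⟩ := hu; obtain ⟨y', hy'⟩ := hv
            exact ⟨x' + y', by simp [map_add, hx', hy', TensorProduct.add_tmul]⟩
          | tmul s u =>
            induction y using TensorProduct.induction_on with
            | zero => exact ⟨0, by simp⟩
            | add v w hv hw =>
              obtain ⟨x', hx'⟩ := hv; obtain ⟨y', hy'⟩ := hw
              exact ⟨x' + y', by simp [map_add, hx', hy', TensorProduct.tmul_add]⟩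
            | tmul t v => exact ⟨(s * t) ⊗ₜ[R] (u ⊗ₜ[R] v), by
                simp [hΨ, hκ, hEq, TensorProduct.tmul_smul, TensorProduct.smul_tmul', smul_smul, mul_comm]⟩
        obtain ⟨z, hz⟩ := hlift b' c'
        refine ⟨z, hz.trans ?_⟩
        show ((Eq b' : A') : MonoidAlgebra S M) ⊗ₜ[S] ((Eq c' : A') : MonoidAlgebra S M) = ext1 D.π b ⊗ₜ[S] ext1 D.π c
        rw [show Eq b' = P b from hb', show Eq c' = P c from hc', hP, hP]
    let Φ₁ : (S ⊗[R] S) ⊗[R] (A ⊗[R] A) →+ MonoidAlgebra (S ⊗[R] S) M ⊗[S ⊗[R] S] MonoidAlgebra (S ⊗[R] S) M :=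
      TensorProduct.liftAddHom
        (AddMonoidHom.mk' (fun t => AddMonoidHom.mk' (fun w => t • coeffGroup₂ i₁ M M (κ w))
            (fun w w' => by rw [map_add, map_add, smul_add]))
          (fun t t' => by ext w; simp [add_smul]))
        (fun x t w => by
          show (x • t) • coeffGroup₂ i₁ M M (κ w) = t • coeffGroup₂ i₁ M M (κ (x • w))
          refine ext_coeff₂ fun p q => ?_
          rw [map_smul, map_smul, map_smul, ← algebraMap_smul S x (κ w), coeff₂_coeffGroup₂, coeff₂_coeffGroup₂, map_smul,
            smul_eq_mul, smul_eq_mul, smul_eq_mul, map_mul, AlgHom.commutes, Algebra.smul_def]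
          ring)
    let Φ₂ : (S ⊗[R] S) ⊗[R] (A ⊗[R] A) →+ MonoidAlgebra (S ⊗[R] S) M ⊗[S ⊗[R] S] MonoidAlgebra (S ⊗[R] S) M :=
      TensorProduct.liftAddHom
        (AddMonoidHom.mk' (fun t => AddMonoidHom.mk' (fun w => t • coeffGroup₂ i₂ M M (κ w))
            (fun w w' => by rw [map_add, map_add, smul_add]))
          (fun t t' => by ext w; simp [add_smul]))
        (fun x t w => by
          show (x • t) • coeffGroup₂ i₂ M M (κ w) = t • coeffGroup₂ i₂ M M (κ (x • w))
          refine ext_coeff₂ fun p q => ?_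
          rw [map_smul, map_smul, map_smul, ← algebraMap_smul S x (κ w), coeff₂_coeffGroup₂, coeff₂_coeffGroup₂, map_smul,
            smul_eq_mul, smul_eq_mul, smul_eq_mul, map_mul, AlgHom.commutes, Algebra.smul_def]
          ring)
    let G := TensorProduct.map (ext1 (T := S ⊗[R] S) D.γ).toLinearMap (ext1 (T := S ⊗[R] S) D.γ).toLinearMap
    have hG : ∀ w, Φ₂ w = G (Φ₁ w) := by
      intro w
      induction w using TensorProduct.induction_on with
      | zero => simp
      | add b c hb hc => simp only [map_add, hb, hc]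
      | tmul t w =>
        show t • coeffGroup₂ i₂ M M (κ w) = G (t • coeffGroup₂ i₁ M M (κ w))
        rw [map_smul]
        congr 1
        induction w using TensorProduct.induction_on with
        | zero => simp
        | add b c hb hc => simp only [map_add, hb, hc]
        | tmul b c => simp [hκ, coeffGroup₂_tmul, G, hinv]
    have hΦΨ₁ : ∀ w, Φ₁ (i₁.toLinearMap.rTensor _ w) = coeffGroup₂ i₁ M M (Ψ w) := by
      intro w
      induction w using TensorProduct.induction_on with
      | zero => simp
      | add b c hb hc => simp only [map_add, hb, hc]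
      | tmul s w =>
        show i₁ s • coeffGroup₂ i₁ M M (κ w) = _
        rw [hΨ]
        exact ext_coeff₂ fun p q => by simp [coeff₂_coeffGroup₂]
    have hΦΨ₂ : ∀ w, Φ₂ (i₂.toLinearMap.rTensor _ w) = coeffGroup₂ i₂ M M (Ψ w) := by
      intro w
      induction w using TensorProduct.induction_on with
      | zero => simp
      | add b c hb hc => simp only [map_add, hb, hc]
      | tmul s w =>
        show i₂ s • coeffGroup₂ i₂ M M (κ w) = _
        rw [hΨ]
        exact ext_coeff₂ fun p q => by simp [coeff₂_coeffGroup₂]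
    have hΦinj : Function.Injective Φ₂ := by
      let cm : S ⊗[R] A →ₐ[R] (S ⊗[R] S) ⊗[R] A := Algebra.TensorProduct.map i₂ (AlgHom.id R A)
      let p₂ : M →* (S ⊗[R] S) ⊗[R] A := cm.toMonoidHom.comp p
      let Λ₂ : MonoidAlgebra (S ⊗[R] S) M ⊗[S ⊗[R] S] MonoidAlgebra (S ⊗[R] S) M →ₐ[S ⊗[R] S] (S ⊗[R] S) ⊗[R] (A ⊗[R] A) :=
        Algebra.TensorProduct.lift
          ((Algebra.TensorProduct.map (AlgHom.id (S ⊗[R] S) (S ⊗[R] S)) (Algebra.TensorProduct.includeLeft : A →ₐ[R] A ⊗[R] A)).comp (ext1 p₂))
          ((Algebra.TensorProduct.map (AlgHom.id (S ⊗[R] S) (S ⊗[R] S)) (Algebra.TensorProduct.includeRight : A →ₐ[R] A ⊗[R] A)).comp (ext1 p₂))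
          (fun _ _ => by exact Commute.all _ _)
      have hp₂ : ∀ a : A, ext1 p₂ (coeffGroup i₂ M (φ a)) = (1 : S ⊗[R] S) ⊗ₜ[R] a := by
        intro a
        have key : ∀ y : MonoidAlgebra S M, ext1 p₂ (coeffGroup i₂ M y) = cm (ext1 p y) := by
          intro y
          induction y using MonoidAlgebra.induction_linear with
          | zero => simp
          | add b c hb hc => simp only [map_add, hb, hc]
          | single m s =>
            rw [coeffGroup_single, ext1_single, ext1_single]
            show i₂ s • cm (p m) = cm (s • p m)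
            generalize p m = x
            induction x using TensorProduct.induction_on with
            | zero => simp
            | tmul t b => simp [TensorProduct.smul_tmul', cm]
            | add b c hb hc => simp only [smul_add, map_add, hb, hc]
        rw [key, hpφ]
        simp [cm, Algebra.TensorProduct.one_def]
      refine Function.LeftInverse.injective (g := Λ₂) fun w => ?_
      induction w using TensorProduct.induction_on with
      | zero => simp
      | add b c hb hc => simp only [map_add, hb, hc]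
      | tmul t w =>
        show Λ₂ (t • coeffGroup₂ i₂ M M (κ w)) = _
        rw [map_smul]
        induction w using TensorProduct.induction_on with
        | zero => simp
        | add b c hb hc => simp only [map_add, smul_add, TensorProduct.tmul_add, hb, hc]
        | tmul b c =>
          simp [hκ, coeffGroup₂_tmul, Λ₂, hp₂, TensorProduct.smul_tmul']
    obtain ⟨z', hz'⟩ := exists_desc (R := R) z (hΦinj (by
      rw [hG, hΦΨ₁, hΦΨ₂, hz, ← coeffGroup_comul, ← coeffGroup_comul, ← hinv, ← bialg_apply D.γ D.γ_gl,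
        ← CoalgHomClass.map_comp_comul_apply (bialg D.γ D.γ_gl)]
      rfl))
    exact ⟨z', by rw [← hz, ← hz', hΨ, one_smul]⟩
  choose cf hcf using hmem
  let Δ : A →ₐ[R] A ⊗[R] A :=
    { toFun := cf
      map_one' := hκinj (by rw [hcf, map_one φ, Bialgebra.comul_one, map_one κ])
      map_mul' := fun a b => hκinj (by rw [hcf, map_mul κ, hcf, hcf, map_mul, Bialgebra.comul_mul])
      map_zero' := hκinj (by rw [hcf, map_zero, map_zero, map_zero])
      map_add' := fun a b => hκinj (by rw [hcf, map_add κ, hcf, hcf, map_add, map_add])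
      commutes' := fun x => hκinj (by
        rw [hcf, AlgHom.commutes, AlgHom.commutes, IsScalarTower.algebraMap_apply R S (MonoidAlgebra S M),
          ← Bialgebra.comulAlgHom_apply, AlgHom.commutes, ← IsScalarTower.algebraMap_apply]) }
  have hΔ : ∀ a, κ (Δ a) = CoalgebraStruct.comul (R := S) (φ a) := hcf
  have hφinj : Function.Injective φ := fun x y hxy => Subtype.ext (Subtype.ext hxy)
  -- axioms
  let κ₃ : A ⊗[R] (A ⊗[R] A) →ₐ[R] MonoidAlgebra S M ⊗[S] (MonoidAlgebra S M ⊗[S] MonoidAlgebra S M) :=
    Algebra.TensorProduct.productMap ((Algebra.TensorProduct.includeLeft (S := R)).comp φ)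
      (((Algebra.TensorProduct.includeRight : MonoidAlgebra S M ⊗[S] MonoidAlgebra S M →ₐ[S]
        MonoidAlgebra S M ⊗[S] (MonoidAlgebra S M ⊗[S] MonoidAlgebra S M)).restrictScalars R).comp κ)
  have hκ₃ : ∀ (a : A) (w : A ⊗[R] A), κ₃ (a ⊗ₜ[R] w) = φ a ⊗ₜ[S] κ w := fun a w => by simp [κ₃]
  have hκ₃inj : Function.Injective κ₃ := by
    let Λ₃ : MonoidAlgebra S M ⊗[S] (MonoidAlgebra S M ⊗[S] MonoidAlgebra S M) →ₐ[S] S ⊗[R] (A ⊗[R] (A ⊗[R] A)) :=
      Algebra.TensorProduct.lift
        ((Algebra.TensorProduct.map (AlgHom.id S S) (Algebra.TensorProduct.includeLeft : A →ₐ[R] A ⊗[R] (A ⊗[R] A))).comp (ext1 p))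
        ((Algebra.TensorProduct.map (AlgHom.id S S) (Algebra.TensorProduct.includeRight : A ⊗[R] A →ₐ[R] A ⊗[R] (A ⊗[R] A))).comp Λ)
        (fun _ _ => by exact Commute.all _ _)
    have : ∀ z, Λ₃ (κ₃ z) = (1 : S) ⊗ₜ[R] z := by
      intro z
      induction z using TensorProduct.induction_on with
      | zero => simp
      | add a b ha hb => simp only [map_add, TensorProduct.tmul_add, ha, hb]
      | tmul a b => simp [hκ₃, Λ₃, hpφ, hΛ]
    exact fun x y hxy => hone _ (by simpa [this] using congrArg Λ₃ hxy)
  have hmapL : ∀ w : A ⊗[R] A, κ₃ (Algebra.TensorProduct.assoc R R R A A A (Algebra.TensorProduct.map Δ (AlgHom.id R A) w)) =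
      TensorProduct.assoc S _ _ _ ((CoalgebraStruct.comul (R := S)).rTensor _ (κ w)) := by
    intro w
    induction w using TensorProduct.induction_on with
    | zero => simp
    | add a b ha hb => simp only [map_add, ha, hb]
    | tmul a b =>
      rw [hκ, LinearMap.rTensor_tmul, ← hΔ, Algebra.TensorProduct.map_tmul, AlgHom.id_apply]
      generalize Δ a = v
      induction v using TensorProduct.induction_on with
      | zero => simp
      | add x y hx hy => simp only [map_add, TensorProduct.add_tmul, hx, hy]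
      | tmul x y => simp [hκ₃, hκ]
  have hmapR : ∀ w : A ⊗[R] A, κ₃ (Algebra.TensorProduct.map (AlgHom.id R A) Δ w) =
      (CoalgebraStruct.comul (R := S)).lTensor _ (κ w) := by
    intro w
    induction w using TensorProduct.induction_on with
    | zero => simp
    | add a b ha hb => simp only [map_add, ha, hb]
    | tmul a b => simp [hκ₃, hκ, hΔ]
  letI bialgA : Bialgebra R A := Bialgebra.ofAlgHom Δ ε
    (AlgHom.ext fun a => hκ₃inj (by
      show κ₃ (Algebra.TensorProduct.assoc R R R A A A (Algebra.TensorProduct.map Δ (AlgHom.id R A) (Δ a))) =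
        κ₃ (Algebra.TensorProduct.map (AlgHom.id R A) Δ (Δ a))
      rw [hmapL, hmapR, hΔ]
      exact Coalgebra.coassoc_apply _))
    (AlgHom.ext fun a => (Algebra.TensorProduct.lid R A).injective (hφinj (by
      show φ (Algebra.TensorProduct.lid R A (Algebra.TensorProduct.map ε (AlgHom.id R A) (Δ a))) =
        φ (Algebra.TensorProduct.lid R A ((Algebra.TensorProduct.lid R A).symm a))
      rw [AlgEquiv.apply_symm_apply]
      have key : ∀ w : A ⊗[R] A, φ (Algebra.TensorProduct.lid R A (Algebra.TensorProduct.map ε (AlgHom.id R A) w)) =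
          TensorProduct.lid S _ ((CoalgebraStruct.counit (R := S)).rTensor _ (κ w)) := by
        intro w
        induction w using TensorProduct.induction_on with
        | zero => simp
        | add x y hx hy => simp only [map_add, hx, hy]
        | tmul x y =>
          rw [hκ, LinearMap.rTensor_tmul, TensorProduct.lid_tmul, ← hε, algebraMap_smul, ← map_smul]
          simp
      rw [key, hΔ, Coalgebra.rTensor_counit_comul, TensorProduct.lid_tmul, one_smul])))
    (AlgHom.ext fun a => (Algebra.TensorProduct.rid R R A).injective (hφinj (by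
      show φ (Algebra.TensorProduct.rid R R A (Algebra.TensorProduct.map (AlgHom.id R A) ε (Δ a))) =
        φ (Algebra.TensorProduct.rid R R A ((Algebra.TensorProduct.rid R R A).symm a))
      rw [AlgEquiv.apply_symm_apply]
      have key : ∀ w : A ⊗[R] A, φ (Algebra.TensorProduct.rid R R A (Algebra.TensorProduct.map (AlgHom.id R A) ε w)) =
          TensorProduct.rid S _ ((CoalgebraStruct.counit (R := S)).lTensor _ (κ w)) := by
        intro w
        induction w using TensorProduct.induction_on with
        | zero => simp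
        | add x y hx hy => simp only [map_add, hx, hy]
        | tmul x y =>
          rw [hκ, LinearMap.lTensor_tmul, TensorProduct.rid_tmul, ← hε, algebraMap_smul, ← map_smul]
          simp
      rw [key, hΔ, Coalgebra.lTensor_counit_comul, TensorProduct.rid_tmul, one_smul])))
  -- the antipode
  have hinvA' : ∀ a : A, ext1 D.π (inv' S M (φ a)) = inv' S M (φ a) := fun a => by
    rw [ext1_inv' D.π_gl]; exact congrArg (inv' S M) a.1.2
  let aS' : A → A' := fun a => ⟨inv' S M (φ a), hinvA' a⟩
  have haS' : ∀ a : A, aS' a ∈ A := by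
    intro a
    show θ (aS' a) = (1 : S) ⊗ₜ[R] aS' a
    rw [hθ]
    show ι₁ (ext1 D.γ (coeffGroup i₁ M (inv' S M (φ a)))) = _
    rw [inv'_coeffGroup, ext1_inv' D.γ_gl, hinv, ← inv'_coeffGroup]
    have hre : ∀ y : MonoidAlgebra S M, ι₁ (coeffGroup i₂ M y) = (1 : S) ⊗ₜ[R] P y := by
      intro y
      induction y using MonoidAlgebra.induction_linear with
      | zero => simp
      | add b c hb hc => simp only [map_add, TensorProduct.tmul_add, hb, hc]
      | single m s =>
        rw [coeffGroup_single, hι₁, show MonoidAlgebra.single m s = s • MonoidAlgebra.single m (1 : S) by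
          rw [MonoidAlgebra.smul_single, smul_eq_mul, mul_one], map_smul, Algebra.smul_def]
        simp [i₂, cS]
    rw [hre, ← hPA (aS' a)]
  let aS : A →ₐ[R] A :=
    { toFun := fun a => ⟨aS' a, haS' a⟩
      map_one' := hφinj (by show inv' S M (φ 1) = φ 1; rw [map_one, map_one])
      map_mul' := fun a b => hφinj (by show inv' S M (φ (a * b)) = _; rw [map_mul, map_mul, map_mul φ]; rfl)
      map_zero' := hφinj (by show inv' S M (φ 0) = φ 0; rw [map_zero, map_zero])
      map_add' := fun a b => hφinj (by show inv' S M (φ (a + b)) = _; rw [map_add, map_add, map_add φ]; rfl)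
      commutes' := fun x => hφinj (by
        show inv' S M (φ (algebraMap R A x)) = φ (algebraMap R A x)
        rw [AlgHom.commutes, IsScalarTower.algebraMap_apply R S (MonoidAlgebra S M), AlgHom.commutes]) }
  have haS : ∀ a, φ (aS a) = inv' S M (φ a) := fun a => rfl
  letI hopfA : HopfAlgebra R A := HopfAlgebra.ofAlgHom aS
    (AlgHom.ext fun a => hφinj (by
      show φ (Algebra.TensorProduct.lift aS (AlgHom.id R A) (fun _ _ => by exact Commute.all _ _) (Δ a)) = φ (algebraMap R A (ε a))
      rw [AlgHom.commutes, IsScalarTower.algebraMap_apply R S (MonoidAlgebra S M), hε, ← inv'_mul (φ a), ← hΔ]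
      generalize Δ a = w
      induction w using TensorProduct.induction_on with
      | zero => simp
      | add x y hx hy => simp only [map_add, hx, hy]
      | tmul x y => simp [hκ, haS]))
    (AlgHom.ext fun a => hφinj (by
      show φ (Algebra.TensorProduct.lift (AlgHom.id R A) aS (fun _ _ => by exact Commute.all _ _) (Δ a)) = φ (algebraMap R A (ε a))
      rw [AlgHom.commutes, IsScalarTower.algebraMap_apply R S (MonoidAlgebra S M), hε, ← mul_inv' (φ a), ← hΔ]
      generalize Δ a = w
      induction w using TensorProduct.induction_on with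
      | zero => simp
      | add x y hx hy => simp only [map_add, hx, hy]
      | tmul x y => simp [hκ, haS]))
  let qa : S ⊗[R] A →ₐ[S] MonoidAlgebra S M := A'.val.comp Eq.toAlgHom
  have hqa : ∀ a : A, qa ((1 : S) ⊗ₜ[R] a) = φ a := fun a => by
    show ((Eq _ : A') : MonoidAlgebra S M) = _
    rw [hEq, one_smul]
  let q : S ⊗[R] A →ₐc[S] MonoidAlgebra S M := BialgHom.ofAlgHom qa
    (by
      ext a
      show CoalgebraStruct.counit (R := S) (qa ((1 : S) ⊗ₜ[R] a)) = CoalgebraStruct.counit (R := S) ((1 : S) ⊗ₜ[R] a)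
      rw [hqa, ← hε, TensorProduct.counit_tmul, Bialgebra.counit_one, Algebra.algebraMap_eq_smul_one]
      rfl)
    (by
      ext a
      show Algebra.TensorProduct.map qa qa (CoalgebraStruct.comul (R := S) ((1 : S) ⊗ₜ[R] a)) =
        CoalgebraStruct.comul (R := S) (qa ((1 : S) ⊗ₜ[R] a))
      rw [hqa, ← hΔ, TensorProduct.comul_tmul, Bialgebra.comul_one]
      show _ = κ (CoalgebraStruct.comul (R := R) a)
      generalize CoalgebraStruct.comul (R := R) a = w
      induction w using TensorProduct.induction_on with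
      | zero => simp
      | add x y hx hy => simp only [map_add, TensorProduct.tmul_add, hx, hy]
      | tmul x y => simp [hκ, hqa, Algebra.TensorProduct.one_def])
  have hq : ∀ x, q x = ((Eq x : A') : MonoidAlgebra S M) := fun x => rfl
  have hp : ∀ m, IsGroupLikeElem S (p m) := by
    intro m
    have hqp : ∀ m, q (p m) = D.π m := fun m => by
      rw [hq]
      show ((Eq (Eq.symm (P (MonoidAlgebra.single m 1))) : A') : MonoidAlgebra S M) = _
      rw [AlgEquiv.apply_symm_apply, hP, ext1_single, one_smul]
    refine (groupLike_iff (p m)).mpr ⟨?_, ?_⟩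
    · let q₂ : S ⊗[R] (A ⊗[R] A) →ₐ[S] MonoidAlgebra S M ⊗[S] MonoidAlgebra S M := Ψ
      have hinjΨ : Function.Injective Ψ := by
        refine Function.LeftInverse.injective (g := Λ) fun z => ?_
        induction z using TensorProduct.induction_on with
        | zero => simp
        | add x y hx hy => simp only [map_add, hx, hy]
        | tmul s w => rw [hΨ, map_smul, hΛ, TensorProduct.smul_tmul', smul_eq_mul, mul_one]
      apply hinjΨ
      have e1 : ∀ x : S ⊗[R] A, Ψ (comulS S x) = CoalgebraStruct.comul (R := S) (q x) := by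
        intro x
        induction x using TensorProduct.induction_on with
        | zero => simp
        | add y z hy hz => simp only [map_add, hy, hz]
        | tmul s a =>
          rw [show comulS S (s ⊗ₜ[R] a) = s ⊗ₜ[R] Δ a from rfl, hΨ, hΔ, hq, hEq, map_smul]
      have e2 : ∀ x : S ⊗[R] A, Ψ (inlS S x) = q x ⊗ₜ[S] (1 : MonoidAlgebra S M) ∧ Ψ (inrS S x) = (1 : MonoidAlgebra S M) ⊗ₜ[S] q x := by
        intro x
        induction x using TensorProduct.induction_on with
        | zero => simp
        | add y z hy hz => simp only [map_add, TensorProduct.add_tmul, TensorProduct.tmul_add, hy.1, hy.2, hz.1, hz.2, and_self]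
        | tmul s a =>
          constructor
          · rw [show inlS S (s ⊗ₜ[R] a) = s ⊗ₜ[R] (a ⊗ₜ[R] (1 : A)) from rfl, hΨ, hκ, map_one, hq, hEq, TensorProduct.smul_tmul']
          · rw [show inrS S (s ⊗ₜ[R] a) = s ⊗ₜ[R] ((1 : A) ⊗ₜ[R] a) from rfl, hΨ, hκ, map_one, hq, hEq, TensorProduct.tmul_smul]
      rw [map_mul, e1, (e2 _).1, (e2 _).2, hqp, (D.π_gl m).comul_eq_tmul_self]
      simp
    · rw [← CoalgHomClass.counit_comp_apply q, hqp, (D.π_gl m).counit_eq_one]
  refine ⟨A, inferInstance, hopfA, ⟨q, p, hp, fun x => ?_⟩, fun m => ?_, fun a => ?_⟩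
  · rw [hEp, hq, hPA, AlgEquiv.symm_apply_apply]
  · show q (p m) = _
    rw [hq]
    show ((Eq (Eq.symm (P (MonoidAlgebra.single m 1))) : A') : MonoidAlgebra S M) = _
    rw [AlgEquiv.apply_symm_apply, hP, ext1_single, one_smul]
  · have : Retract.φ ⟨q, p, hp, fun x => by rw [hEp, hq, hPA, AlgEquiv.symm_apply_apply]⟩ a = φ a := hqa a
    rw [this]
    exact hinv a

end Groth.Agent.H83.LiftGrp
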