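import Groth.Agent.H83.MultType.Functorial

/-! Homomorphisms into the group-like elements of a group algebra, and their unique lifting. -/

set_option autoImplicit false

universe u

open TensorProduct

namespace Groth.Agent.H83.LiftGrp

open Groth.Agent.H83.MultType

variable {R : Type u} [CommRing R]

theorem ext_coeff {T : Type u} [CommRing T] {N : Type u} [CommGroup N] {y z : MonoidAlgebra T N}
    (h : ∀ p, coeffAt T p y = coeffAt T p z) : y = z := by
  apply (MonoidAlgebra.coeffLinearEquiv T).injective
  ext p
  exact h p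

/-- The coefficient at a pair. -/
noncomputable def coeff₂ (T : Type u) [CommRing T] {M N : Type u} [CommGroup M] [CommGroup N] (p : M) (q : N) :
    MonoidAlgebra T M ⊗[T] MonoidAlgebra T N →ₗ[T] T :=
  LinearMap.mul' T T ∘ₗ TensorProduct.map (coeffAt T p) (coeffAt T q)

theorem ext_coeff₂ {T : Type u} [CommRing T] {M N : Type u} [CommGroup M] [CommGroup N]
    {y z : MonoidAlgebra T M ⊗[T] MonoidAlgebra T N} (h : ∀ p q, coeff₂ T p q y = coeff₂ T p q z) : y = z := by
  let b₁ : Module.Basis M T (MonoidAlgebra T M) := Finsupp.basisSingleOne.map (MonoidAlgebra.coeffLinearEquiv T).symm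
  let b₂ : Module.Basis N T (MonoidAlgebra T N) := Finsupp.basisSingleOne.map (MonoidAlgebra.coeffLinearEquiv T).symm
  have hb : ∀ (w : MonoidAlgebra T M ⊗[T] MonoidAlgebra T N) (p : M) (q : N),
      (b₁.tensorProduct b₂).repr w (p, q) = coeff₂ T p q w := by
    intro w p q
    induction w using TensorProduct.induction_on with
    | zero => simp
    | add a b ha hb => simp only [map_add, Finsupp.add_apply, ha, hb]
    | tmul a b =>
      rw [Module.Basis.tensorProduct_repr_tmul_apply]
      simp [coeff₂, b₁, b₂, coeffAt, mul_comm]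
  apply (b₁.tensorProduct b₂).repr.injective
  ext ⟨p, q⟩
  rw [hb, hb]
  exact h p q

section push

variable {S T : Type u} [CommRing S] [Algebra R S] [CommRing T] [Algebra R T]

theorem coeffAt_coeffGroup (f : S →ₐ[R] T) {M : Type u} [CommGroup M] (p : M) (y : MonoidAlgebra S M) :
    coeffAt T p (coeffGroup f M y) = f (coeffAt S p y) := by
  classical
  induction y using MonoidAlgebra.induction_linear with
  | zero => simp
  | add a b ha hb => simp only [map_add, ha, hb]
  | single g r =>
    rw [coeffGroup_single, coeffAt_single, coeffAt_single]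
    split_ifs <;> simp

theorem coeffGroup_comp {U : Type u} [CommRing U] [Algebra R U] (g : T →ₐ[R] U) (f : S →ₐ[R] T) {M : Type u} [CommGroup M]
    (y : MonoidAlgebra S M) : coeffGroup g M (coeffGroup f M y) = coeffGroup (g.comp f) M y :=
  ext_coeff fun p => by rw [coeffAt_coeffGroup, coeffAt_coeffGroup, coeffAt_coeffGroup]; rfl

theorem coeffGroup_id {M : Type u} [CommGroup M] (y : MonoidAlgebra S M) : coeffGroup (AlgHom.id R S) M y = y :=
  ext_coeff fun p => by rw [coeffAt_coeffGroup]; rfl

/-- The map of two-fold tensor powers induced by a change of coefficients. -/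
noncomputable def coeffGroup₂ (f : S →ₐ[R] T) (M N : Type u) [CommGroup M] [CommGroup N] :
    MonoidAlgebra S M ⊗[S] MonoidAlgebra S N →+ MonoidAlgebra T M ⊗[T] MonoidAlgebra T N :=
  TensorProduct.liftAddHom
    (AddMonoidHom.mk' (fun a => AddMonoidHom.mk' (fun b => coeffGroup f M a ⊗ₜ[T] coeffGroup f N b)
        (fun b b' => by rw [map_add, TensorProduct.tmul_add]))
      (fun a a' => by ext b; simp [TensorProduct.add_tmul]))
    (fun s a b => by
      show coeffGroup f M (s • a) ⊗ₜ[T] coeffGroup f N b = coeffGroup f M a ⊗ₜ[T] coeffGroup f N (s • b)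
      have hs : ∀ {K : Type u} [CommGroup K] (c : MonoidAlgebra S K), coeffGroup f K (s • c) = f s • coeffGroup f K c := by
        intro K _ c
        refine ext_coeff fun p => ?_
        simp [coeffAt_coeffGroup]
      rw [hs, hs, TensorProduct.smul_tmul])

theorem coeffGroup₂_tmul (f : S →ₐ[R] T) {M N : Type u} [CommGroup M] [CommGroup N] (a : MonoidAlgebra S M)
    (b : MonoidAlgebra S N) : coeffGroup₂ f M N (a ⊗ₜ[S] b) = coeffGroup f M a ⊗ₜ[T] coeffGroup f N b := rfl

theorem coeff₂_coeffGroup₂ (f : S →ₐ[R] T) {M N : Type u} [CommGroup M] [CommGroup N] (p : M) (q : N)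
    (z : MonoidAlgebra S M ⊗[S] MonoidAlgebra S N) :
    coeff₂ T p q (coeffGroup₂ f M N z) = f (coeff₂ S p q z) := by
  induction z using TensorProduct.induction_on with
  | zero => simp
  | add a b ha hb => simp only [map_add, ha, hb]
  | tmul a b => simp [coeff₂, coeffGroup₂_tmul, coeffAt_coeffGroup]

theorem coeffGroup_comul (f : S →ₐ[R] T) {M : Type u} [CommGroup M] (y : MonoidAlgebra S M) :
    CoalgebraStruct.comul (R := T) (coeffGroup f M y) = coeffGroup₂ f M M (CoalgebraStruct.comul (R := S) y) := by
  classical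
  refine ext_coeff₂ fun p q => ?_
  rw [coeff₂_coeffGroup₂]
  show LinearMap.mul' T T _ = f (LinearMap.mul' S S _)
  rw [coeffAt_comul, coeffAt_comul, coeffAt_coeffGroup]
  split_ifs <;> simp

theorem coeffGroup_counit (f : S →ₐ[R] T) {M : Type u} [CommGroup M] (y : MonoidAlgebra S M) :
    CoalgebraStruct.counit (R := T) (coeffGroup f M y) = f (CoalgebraStruct.counit (R := S) y) := by
  induction y using MonoidAlgebra.induction_linear with
  | zero => simp
  | add a b ha hb => simp only [map_add, ha, hb]
  | single g r => simp [coeffGroup_single]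

theorem groupLike_coeffGroup (f : S →ₐ[R] T) {M : Type u} [CommGroup M] {y : MonoidAlgebra S M} (hy : IsGroupLikeElem S y) :
    IsGroupLikeElem T (coeffGroup f M y) where
  counit_eq_one := by rw [coeffGroup_counit, hy.counit_eq_one, map_one]
  comul_eq_tmul_self := by rw [coeffGroup_comul, hy.comul_eq_tmul_self, coeffGroup₂_tmul]

/-- Change of coefficients of a family of group-like elements. -/
noncomputable def push (f : S →ₐ[R] T) {M N : Type u} [CommGroup M] [CommGroup N] (g : M →* MonoidAlgebra S N) :
    M →* MonoidAlgebra T N :=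
  (coeffGroup f N).toMonoidHom.comp g

theorem push_apply (f : S →ₐ[R] T) {M N : Type u} [CommGroup M] [CommGroup N] (g : M →* MonoidAlgebra S N) (m : M) :
    push f g m = coeffGroup f N (g m) := rfl

end push

/-- Families of group-like elements. -/
def IsGL {T : Type u} [CommRing T] {M N : Type u} [CommGroup M] [CommGroup N] (g : M →* MonoidAlgebra T N) : Prop :=
  ∀ m, IsGroupLikeElem T (g m)

theorem IsGL.push {S T : Type u} [CommRing S] [Algebra R S] [CommRing T] [Algebra R T] (f : S →ₐ[R] T) {M N : Type u}
    [CommGroup M] [CommGroup N] {g : M →* MonoidAlgebra S N} (hg : IsGL g) : IsGL (LiftGrp.push f g) :=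
  fun m => groupLike_coeffGroup f (hg m)

/-- The linear extension of a family. -/
noncomputable def ext1 {T : Type u} [CommRing T] {M : Type u} [CommGroup M] {B : Type u} [CommRing B] [Algebra T B]
    (g : M →* B) : MonoidAlgebra T M →ₐ[T] B :=
  MonoidAlgebra.lift T B M g

theorem ext1_single {T : Type u} [CommRing T] {M : Type u} [CommGroup M] {B : Type u} [CommRing B] [Algebra T B]
    (g : M →* B) (m : M) (r : T) : ext1 g (MonoidAlgebra.single m r) = r • g m := by
  simp [ext1]

/-- The bialgebra map of a family of group-like elements. -/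
noncomputable def bialg {T : Type u} [CommRing T] {M N : Type u} [CommGroup M] [CommGroup N]
    (g : M →* MonoidAlgebra T N) (hg : IsGL g) : MonoidAlgebra T M →ₐc[T] MonoidAlgebra T N :=
  BialgHom.ofAlgHom (ext1 g)
    (by
      ext m
      simp [ext1_single, (hg m).counit_eq_one])
    (by
      ext m
      simp [ext1_single, (hg m).comul_eq_tmul_self])

theorem bialg_apply {T : Type u} [CommRing T] {M N : Type u} [CommGroup M] [CommGroup N]
    (g : M →* MonoidAlgebra T N) (hg : IsGL g) (y : MonoidAlgebra T M) : bialg g hg y = ext1 g y := rfl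

theorem groupLike_ext1 {T : Type u} [CommRing T] {M N : Type u} [CommGroup M] [CommGroup N]
    {g : M →* MonoidAlgebra T N} (hg : IsGL g) {y : MonoidAlgebra T M} (hy : IsGroupLikeElem T y) :
    IsGroupLikeElem T (ext1 g y) := hy.map (bialg g hg)

/-- Composition of families. -/
noncomputable def comp {T : Type u} [CommRing T] {L M N : Type u} [CommGroup L] [CommGroup M] [CommGroup N]
    (h : M →* MonoidAlgebra T N) (g : L →* MonoidAlgebra T M) : L →* MonoidAlgebra T N :=
  (ext1 h : MonoidAlgebra T M →ₐ[T] MonoidAlgebra T N).toMonoidHom.comp g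

theorem comp_apply {T : Type u} [CommRing T] {L M N : Type u} [CommGroup L] [CommGroup M] [CommGroup N]
    (h : M →* MonoidAlgebra T N) (g : L →* MonoidAlgebra T M) (l : L) : comp h g l = ext1 h (g l) := rfl

theorem IsGL.comp {T : Type u} [CommRing T] {L M N : Type u} [CommGroup L] [CommGroup M] [CommGroup N]
    {h : M →* MonoidAlgebra T N} {g : L →* MonoidAlgebra T M} (hh : IsGL h) (hg : IsGL g) : IsGL (LiftGrp.comp h g) :=
  fun l => groupLike_ext1 hh (hg l)

theorem ext1_comp {T : Type u} [CommRing T] {L M N : Type u} [CommGroup L] [CommGroup M] [CommGroup N]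
    (h : M →* MonoidAlgebra T N) (g : L →* MonoidAlgebra T M) (y : MonoidAlgebra T L) :
    ext1 (comp h g) y = ext1 h (ext1 g y) := by
  induction y using MonoidAlgebra.induction_linear with
  | zero => simp
  | add a b ha hb => simp only [map_add, ha, hb]
  | single m r => rw [ext1_single, ext1_single, map_smul]; rfl

theorem coeffGroup_ext1 {S T : Type u} [CommRing S] [Algebra R S] [CommRing T] [Algebra R T] (f : S →ₐ[R] T)
    {M N : Type u} [CommGroup M] [CommGroup N] (g : M →* MonoidAlgebra S N) (y : MonoidAlgebra S M) :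
    coeffGroup f N (ext1 g y) = ext1 (push f g) (coeffGroup f M y) := by
  induction y using MonoidAlgebra.induction_linear with
  | zero => simp
  | add a b ha hb => simp only [map_add, ha, hb]
  | single m r =>
    rw [coeffGroup_single, ext1_single, ext1_single, push_apply]
    refine ext_coeff fun p => ?_
    simp [coeffAt_coeffGroup]

theorem push_comp {S T : Type u} [CommRing S] [Algebra R S] [CommRing T] [Algebra R T] (f : S →ₐ[R] T)
    {L M N : Type u} [CommGroup L] [CommGroup M] [CommGroup N] (h : M →* MonoidAlgebra S N) (g : L →* MonoidAlgebra S M) :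
    push f (comp h g) = comp (push f h) (push f g) :=
  MonoidHom.ext fun l => coeffGroup_ext1 f h (g l)

theorem push_push {S T U : Type u} [CommRing S] [Algebra R S] [CommRing T] [Algebra R T] [CommRing U] [Algebra R U]
    (g : T →ₐ[R] U) (f : S →ₐ[R] T) {M N : Type u} [CommGroup M] [CommGroup N] (h : M →* MonoidAlgebra S N) :
    push g (push f h) = push (g.comp f) h :=
  MonoidHom.ext fun _ => coeffGroup_comp g f _

/-- The criterion for being group-like. -/
theorem isGroupLike_of_coeff {T : Type u} [CommRing T] {N : Type u} [CommGroup N] {y : MonoidAlgebra T N}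
    (h1 : ∀ p, coeffAt T p y * coeffAt T p y = coeffAt T p y)
    (h2 : ∀ p q, p ≠ q → coeffAt T p y * coeffAt T q y = 0)
    (h3 : CoalgebraStruct.counit (R := T) y = 1) : IsGroupLikeElem T y where
  counit_eq_one := h3
  comul_eq_tmul_self := by
    classical
    refine ext_coeff₂ fun p q => ?_
    show LinearMap.mul' T T _ = _
    rw [coeffAt_comul]
    simp only [coeff₂, LinearMap.comp_apply, TensorProduct.map_tmul, LinearMap.mul'_apply]
    split_ifs with h
    · subst h; rw [h1]
    · rw [h2 p q h]

/-- A map along which idempotents lift uniquely. -/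
structure Red {T T₀ : Type u} [CommRing T] [Algebra R T] [CommRing T₀] [Algebra R T₀] (f : T →ₐ[R] T₀) : Prop where
  inj : ∀ e e' : T, IsIdempotentElem e → IsIdempotentElem e' → f e = f e' → e = e'
  lift : ∀ e₀ : T₀, IsIdempotentElem e₀ → ∃ e : T, IsIdempotentElem e ∧ f e = e₀

section lifting

variable {T T₀ : Type u} [CommRing T] [Algebra R T] [CommRing T₀] [Algebra R T₀] {f : T →ₐ[R] T₀}

theorem Red.groupLike_eq (hf : Red f) {N : Type u} [CommGroup N] {y z : MonoidAlgebra T N} (hy : IsGroupLikeElem T y)
    (hz : IsGroupLikeElem T z) (h : coeffGroup f N y = coeffGroup f N z) : y = z := by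
  classical
  refine ext_coeff fun p => hf.inj _ _ ?_ ?_ ?_
  · have := groupLike_coeff_mul hy p p; rwa [if_pos rfl] at this
  · have := groupLike_coeff_mul hz p p; rwa [if_pos rfl] at this
  · rw [← coeffAt_coeffGroup, ← coeffAt_coeffGroup, h]

theorem Red.exists_groupLike (hf : Red f) {N : Type u} [CommGroup N] {y₀ : MonoidAlgebra T₀ N}
    (hy : IsGroupLikeElem T₀ y₀) : ∃ y : MonoidAlgebra T N, IsGroupLikeElem T y ∧ coeffGroup f N y = y₀ := by
  classical
  let U : Finset N := y₀.coeff.support
  have hidem : ∀ p, IsIdempotentElem (coeffAt T₀ p y₀) := fun p => by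
    have := groupLike_coeff_mul hy p p; rwa [if_pos rfl] at this
  choose e he hee using fun p => hf.lift _ (hidem p)
  have hortho : ∀ p q, p ≠ q → e p * e q = 0 := fun p q hpq =>
    hf.inj _ _ ((he p).mul (he q)) IsIdempotentElem.zero (by
      rw [map_mul, hee, hee, map_zero, groupLike_coeff_mul hy, if_neg hpq])
  let y : MonoidAlgebra T N := ∑ p ∈ U, MonoidAlgebra.single p (e p)
  have hcoeff : ∀ q, coeffAt T q y = if q ∈ U then e q else 0 := fun q => by
    simp only [y, map_sum, coeffAt_single, Finset.sum_ite_eq']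
  have hsum : IsIdempotentElem (∑ p ∈ U, e p) := by
    show _ * _ = _
    rw [Finset.sum_mul]
    refine Finset.sum_congr rfl fun p hp => ?_
    rw [Finset.mul_sum, Finset.sum_eq_single p (fun q _ hq => hortho p q (Ne.symm hq)) (fun h => absurd hp h)]
    exact he p
  refine ⟨y, isGroupLike_of_coeff (fun p => ?_) (fun p q hpq => ?_) ?_, ext_coeff fun q => ?_⟩
  · rw [hcoeff]; split_ifs with h
    · exact he p
    · exact mul_zero _
  · rw [hcoeff, hcoeff]; split_ifs <;> simp [hortho p q hpq]
  · have h1 : CoalgebraStruct.counit (R := T) y = ∑ p ∈ U, e p := by simp [y]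
    rw [h1]
    refine hf.inj _ _ hsum IsIdempotentElem.one ?_
    rw [map_one, map_sum, ← hy.counit_eq_one]
    simp only [hee]
    conv_rhs => rw [← y₀.sum_coeff_single, Finsupp.sum, map_sum]
    refine Finset.sum_congr rfl fun p _ => ?_
    simp [coeffAt]
  · rw [coeffAt_coeffGroup, hcoeff]
    split_ifs with h
    · exact hee q
    · rw [map_zero]; symm; simpa [coeffAt, U] using h

theorem Red.family_eq (hf : Red f) {M N : Type u} [CommGroup M] [CommGroup N] {g g' : M →* MonoidAlgebra T N}
    (hg : IsGL g) (hg' : IsGL g') (h : push f g = push f g') : g = g' :=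
  MonoidHom.ext fun m => hf.groupLike_eq (hg m) (hg' m) (DFunLike.congr_fun h m)

theorem Red.exists_family (hf : Red f) {M N : Type u} [CommGroup M] [CommGroup N] {g₀ : M →* MonoidAlgebra T₀ N}
    (hg₀ : IsGL g₀) : ∃ g : M →* MonoidAlgebra T N, IsGL g ∧ push f g = g₀ := by
  choose g hg hgf using fun m => hf.exists_groupLike (hg₀ m)
  exact ⟨{ toFun := g
           map_one' := hf.groupLike_eq (hg 1) .one (by rw [hgf, map_one, map_one])
           map_mul' := fun m n => hf.groupLike_eq (hg _) ((hg m).mul (hg n)) (by rw [hgf, map_mul, map_mul, hgf, hgf]) },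
    hg, MonoidHom.ext hgf⟩

end lifting

end Groth.Agent.H83.LiftGrp
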