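import Groth.Agent.H83.LiftGrp.Build

/-! Lifting retracts of diagonalisable groups along unique lifting of idempotents. -/

set_option autoImplicit false

universe u

open TensorProduct

namespace Groth.Agent.H83.LiftGrp

open Groth.Agent.H83.MultType

variable {R : Type u} [CommRing R] (I : Ideal R)

theorem red_of_bijOn {T T₀ : Type u} [CommRing T] [Algebra R T] [CommRing T₀] [Algebra (R ⧸ I) T₀] [Algebra R T₀]
    [IsScalarTower R (R ⧸ I) T₀] (f : T →ₐ[R] T₀) (hf : Function.Surjective f)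
    (hker : RingHom.ker f ≤ I.map (algebraMap R T))
    (hbij : Set.BijOn (Ideal.Quotient.mk (I.map (algebraMap R T))) {e : T | IsIdempotentElem e} {e | IsIdempotentElem e}) :
    Red f where
  inj e e' he he' h := hbij.injOn he he' (Ideal.Quotient.eq.mpr (hker (by rw [RingHom.mem_ker, map_sub, h, sub_self])))
  lift e₀ he₀ := by
    obtain ⟨b, rfl⟩ := hf e₀
    have hle : I.map (algebraMap R T) ≤ RingHom.ker f := Ideal.map_le_iff_le_comap.mpr fun a ha => by
      rw [Ideal.mem_comap, RingHom.mem_ker, AlgHom.commutes, IsScalarTower.algebraMap_apply R (R ⧸ I) T₀,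
        Ideal.Quotient.algebraMap_eq, Ideal.Quotient.eq_zero_iff_mem.mpr ha, map_zero]
    obtain ⟨e, he, heb⟩ := hbij.surjOn (show IsIdempotentElem (Ideal.Quotient.mk _ b) by
      show _ * _ = _
      rw [← map_mul, Ideal.Quotient.eq]
      exact hker (by rw [RingHom.mem_ker, map_sub, map_mul, he₀.eq, sub_self]))
    exact ⟨e, he, by
      have := hle (Ideal.Quotient.eq.mp heb)
      rwa [RingHom.mem_ker, map_sub, sub_eq_zero] at this⟩

set_option synthInstance.maxHeartbeats 200000 in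
/-- The reduction of a tensor product. -/
theorem exists_red₂ {S S' S₀ S₀' : Type u} [CommRing S] [Algebra R S] [CommRing S'] [Algebra R S'] [CommRing S₀]
    [Algebra (R ⧸ I) S₀] [Algebra R S₀] [IsScalarTower R (R ⧸ I) S₀] [CommRing S₀'] [Algebra (R ⧸ I) S₀'] [Algebra R S₀']
    [IsScalarTower R (R ⧸ I) S₀'] (f : S →ₐ[R] S₀) (hf : Function.Surjective f) (hker : RingHom.ker f ≤ I.map (algebraMap R S))
    (f' : S' →ₐ[R] S₀') (hf' : Function.Surjective f') (hker' : RingHom.ker f' ≤ I.map (algebraMap R S')) :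
    ∃ F : S ⊗[R] S' →ₐ[R] S₀ ⊗[R ⧸ I] S₀', Function.Surjective F ∧
      RingHom.ker F ≤ I.map (algebraMap R (S ⊗[R] S')) ∧ ∀ s s', F (s ⊗ₜ[R] s') = f s ⊗ₜ[R ⧸ I] f' s' := by
  let F : S ⊗[R] S' →ₐ[R] S₀ ⊗[R ⧸ I] S₀' :=
    Algebra.TensorProduct.lift (((Algebra.TensorProduct.includeLeft : S₀ →ₐ[R ⧸ I] S₀ ⊗[R ⧸ I] S₀').restrictScalars R).comp f)
      (((Algebra.TensorProduct.includeRight : S₀' →ₐ[R ⧸ I] S₀ ⊗[R ⧸ I] S₀').restrictScalars R).comp f')
      (fun _ _ => by exact Commute.all _ _)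
  have hF : ∀ s s', F (s ⊗ₜ[R] s') = f s ⊗ₜ[R ⧸ I] f' s' := fun s s' => by simp [F]
  refine ⟨F, fun z => ?_, ?_, hF⟩
  · induction z using TensorProduct.induction_on with
    | zero => exact ⟨0, map_zero _⟩
    | tmul a b =>
      obtain ⟨x, rfl⟩ := hf a; obtain ⟨y, rfl⟩ := hf' b
      exact ⟨x ⊗ₜ y, hF x y⟩
    | add a b ha hb =>
      obtain ⟨x, rfl⟩ := ha; obtain ⟨y, rfl⟩ := hb
      exact ⟨x + y, map_add F x y⟩
  let K := I.map (algebraMap R (S ⊗[R] S'))
  let ρ : R ⧸ I →+* (S ⊗[R] S') ⧸ K := Ideal.quotientMap K (algebraMap R (S ⊗[R] S')) Ideal.le_comap_map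
  let π : S ⊗[R] S' →ₐ[R] (S ⊗[R] S') ⧸ K := Ideal.Quotient.mkₐ R K
  have hfac : ∀ {U U₀ : Type u} [CommRing U] [Algebra R U] [CommRing U₀] [Algebra R U₀] (g : U →ₐ[R] U₀)
      (_ : Function.Surjective g) (_ : RingHom.ker g ≤ I.map (algebraMap R U)) (h : U →ₐ[R] (S ⊗[R] S') ⧸ K),
      ∃ h₀ : U₀ →ₐ[R] (S ⊗[R] S') ⧸ K, ∀ x, h₀ (g x) = h x := by
    intro U U₀ _ _ _ _ g hg hgk h
    have hle : RingHom.ker g ≤ RingHom.ker h := hgk.trans (Ideal.map_le_iff_le_comap.mpr fun a ha => by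
      rw [Ideal.mem_comap, RingHom.mem_ker, AlgHom.commutes, ← Ideal.Quotient.mk_algebraMap]
      exact Ideal.Quotient.eq_zero_iff_mem.mpr (Ideal.mem_map_of_mem _ ha))
    refine ⟨(Ideal.Quotient.liftₐ (RingHom.ker g) h fun a ha => hle ha).comp
      (Ideal.quotientKerAlgEquivOfSurjective hg).symm.toAlgHom, fun x => ?_⟩
    have : (Ideal.quotientKerAlgEquivOfSurjective hg).symm (g x) = Ideal.Quotient.mk _ x := by
      rw [AlgEquiv.symm_apply_eq]; rfl
    show Ideal.Quotient.liftₐ (RingHom.ker g) h (fun a ha => hle ha) ((Ideal.quotientKerAlgEquivOfSurjective hg).symm (g x)) = h x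
    rw [this]; rfl
  obtain ⟨g₁, hg₁⟩ := hfac f hf hker (π.comp Algebra.TensorProduct.includeLeft)
  obtain ⟨g₂, hg₂⟩ := hfac f' hf' hker' (π.comp Algebra.TensorProduct.includeRight)
  letI : Algebra (R ⧸ I) ((S ⊗[R] S') ⧸ K) := ρ.toAlgebra
  have hρ : ∀ x : R, algebraMap (R ⧸ I) ((S ⊗[R] S') ⧸ K) (Ideal.Quotient.mk I x) = algebraMap R _ x := fun x => rfl
  let G₁ : S₀ →ₐ[R ⧸ I] (S ⊗[R] S') ⧸ K :=
    { g₁ with
      commutes' := fun x => by
        obtain ⟨x, rfl⟩ := Ideal.Quotient.mk_surjective x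
        show g₁ (algebraMap (R ⧸ I) S₀ (Ideal.Quotient.mk I x)) = _
        rw [hρ, show algebraMap (R ⧸ I) S₀ (Ideal.Quotient.mk I x) = algebraMap R S₀ x from
          (IsScalarTower.algebraMap_apply R (R ⧸ I) S₀ x).symm, AlgHom.commutes] }
  let G₂ : S₀' →ₐ[R ⧸ I] (S ⊗[R] S') ⧸ K :=
    { g₂ with
      commutes' := fun x => by
        obtain ⟨x, rfl⟩ := Ideal.Quotient.mk_surjective x
        show g₂ (algebraMap (R ⧸ I) S₀' (Ideal.Quotient.mk I x)) = _
        rw [hρ, show algebraMap (R ⧸ I) S₀' (Ideal.Quotient.mk I x) = algebraMap R S₀' x from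
          (IsScalarTower.algebraMap_apply R (R ⧸ I) S₀' x).symm, AlgHom.commutes] }
  let G := Algebra.TensorProduct.lift G₁ G₂ (fun _ _ => by exact Commute.all _ _)
  have hG : ∀ z, G (F z) = π z := by
    intro z
    induction z using TensorProduct.induction_on with
    | zero => simp
    | add a b ha hb => simp only [map_add, ha, hb]
    | tmul a b =>
      rw [hF]
      show g₁ (f a) * g₂ (f' b) = _
      rw [hg₁, hg₂, AlgHom.comp_apply, AlgHom.comp_apply, ← map_mul]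
      simp
  intro z hz
  rw [RingHom.mem_ker] at hz
  have := hG z
  rw [hz, map_zero] at this
  exact Ideal.Quotient.eq_zero_iff_mem.mp this.symm

set_option synthInstance.maxHeartbeats 400000 in
set_option maxSynthPendingDepth 4 in
set_option maxHeartbeats 3200000 in
/-- The lift of a retract. -/
theorem exists_lift {S : Type u} [CommRing S] [Algebra R S] [Module.FaithfullyFlat R S] {S₀ : Type u} [CommRing S₀]
    [Algebra (R ⧸ I) S₀] [Algebra R S₀] [IsScalarTower R (R ⧸ I) S₀] [Module.FaithfullyFlat (R ⧸ I) S₀]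
    {A₀ : Type u} [CommRing A₀] [HopfAlgebra (R ⧸ I) A₀] {M : Type u} [CommGroup M] (r₀ : Retract (R ⧸ I) A₀ S₀ M)
    (f : S →ₐ[R] S₀) (hf : Function.Surjective f) (hker : RingHom.ker f ≤ I.map (algebraMap R S))
    (hbij : ∀ (T : Type u) [CommRing T] [Algebra R T], (Nonempty (T ≃ₐ[R] S) ∨ Nonempty (T ≃ₐ[R] S ⊗[R] S) ∨
      Nonempty (T ≃ₐ[R] S ⊗[R] (S ⊗[R] S))) →
      Set.BijOn (Ideal.Quotient.mk (I.map (algebraMap R T))) {e : T | IsIdempotentElem e} {e | IsIdempotentElem e}) :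
    ∃ (A : Type u) (_ : CommRing A) (_ : HopfAlgebra R A) (r : Retract R A S M),
      (∀ m, coeffGroup f M (r.q (r.p m)) = r₀.q (r₀.p m)) ∧ Nonempty (((R ⧸ I) ⊗[R] A) ≃ₐc[R ⧸ I] A₀) := by
  classical
  obtain ⟨f₂, hf₂, hk₂, hF₂⟩ := exists_red₂ I f hf hker f hf hker
  obtain ⟨f₃, hf₃, hk₃, hF₃⟩ := exists_red₂ I f hf hker f₂ hf₂ hk₂
  have r1 : Red f := red_of_bijOn I f hf hker (hbij S (Or.inl ⟨AlgEquiv.refl⟩))
  have r2 : Red f₂ := red_of_bijOn I f₂ hf₂ hk₂ (hbij _ (Or.inr (Or.inl ⟨AlgEquiv.refl⟩)))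
  have r3 : Red f₃ := red_of_bijOn I f₃ hf₃ hk₃ (hbij _ (Or.inr (Or.inr ⟨AlgEquiv.refl⟩)))
  let k₁ : S₀ →ₐ[R ⧸ I] S₀ ⊗[R ⧸ I] S₀ := Algebra.TensorProduct.includeLeft
  let k₂ : S₀ →ₐ[R ⧸ I] S₀ ⊗[R ⧸ I] S₀ := Algebra.TensorProduct.includeRight
  obtain ⟨π, hπ, hπ₀⟩ := r1.exists_family (r₀.gam_gl (AlgHom.id _ S₀) (AlgHom.id _ S₀))
  obtain ⟨γ, hγ, hγ₀⟩ := r2.exists_family (r₀.gam_gl k₁ k₂)
  let i₁ : S →ₐ[R] S ⊗[R] S := Algebra.TensorProduct.includeLeft
  let i₂ : S →ₐ[R] S ⊗[R] S := Algebra.TensorProduct.includeRight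
  have hi₁ : f₂.comp i₁ = (k₁.restrictScalars R).comp f := AlgHom.ext fun s => by simp [i₁, k₁, hF₂]
  have hi₂ : f₂.comp i₂ = (k₂.restrictScalars R).comp f := AlgHom.ext fun s => by simp [i₂, k₂, hF₂]
  have hres : ∀ {T T' : Type u} [CommRing T] [Algebra (R ⧸ I) T] [Algebra R T] [IsScalarTower R (R ⧸ I) T] [CommRing T']
      [Algebra (R ⧸ I) T'] [Algebra R T'] [IsScalarTower R (R ⧸ I) T'] (g : T →ₐ[R ⧸ I] T')
      (x : M →* MonoidAlgebra T M), push (g.restrictScalars R) x = push g x := fun g x => rfl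
  have hk₁π : push f₂ (push i₁ π) = r₀.gam k₁ k₁ := by
    rw [push_push, hi₁, ← push_push, hπ₀, hres, Retract.push_gam, AlgHom.comp_id]
  have hk₂π : push f₂ (push i₂ π) = r₀.gam k₂ k₂ := by
    rw [push_push, hi₂, ← push_push, hπ₀, hres, Retract.push_gam, AlgHom.comp_id]
  let D : Twist R S M :=
    { π := π
      π_gl := hπ
      π_idem := r1.family_eq (hπ.comp hπ) hπ (by rw [push_comp, hπ₀, Retract.gam_comp])
      γ := γ
      γ_gl := hγ
      left := r2.family_eq (hγ.comp (hπ.push _)) hγ (by rw [push_comp, hγ₀, hk₁π, Retract.gam_comp])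
      right := r2.family_eq ((hπ.push _).comp hγ) hγ (by rw [push_comp, hγ₀, hk₂π, Retract.gam_comp])
      diag := r1.family_eq (hγ.push _) hπ (by
        have hμ : f.comp (Algebra.TensorProduct.lmul' R : S ⊗[R] S →ₐ[R] S) =
            ((Algebra.TensorProduct.lmul' (R ⧸ I) : S₀ ⊗[R ⧸ I] S₀ →ₐ[R ⧸ I] S₀).restrictScalars R).comp f₂ :=
          Algebra.TensorProduct.ext' fun a b => by simp [hF₂]
        rw [push_push, hμ, ← push_push, hγ₀, hres, Retract.push_gam, hπ₀]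
        congr 1 <;> exact AlgHom.ext fun s => by simp [k₁, k₂])
      cocycle := r3.family_eq ((hγ.push _).comp (hγ.push _)) (hγ.push _) (by
        have e23 : f₃.comp (Algebra.TensorProduct.includeRight : S ⊗[R] S →ₐ[R] S ⊗[R] (S ⊗[R] S)) =
            ((Algebra.TensorProduct.includeRight : S₀ ⊗[R ⧸ I] S₀ →ₐ[R ⧸ I] S₀ ⊗[R ⧸ I] (S₀ ⊗[R ⧸ I] S₀)).restrictScalars R).comp f₂ :=
          Algebra.TensorProduct.ext' fun a b => by simp [hF₂, hF₃]
        have e12 : f₃.comp (Algebra.TensorProduct.map (AlgHom.id R S) i₁) =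
            ((Algebra.TensorProduct.map (AlgHom.id (R ⧸ I) S₀) k₁).restrictScalars R).comp f₂ :=
          Algebra.TensorProduct.ext' fun a b => by simp [hF₂, hF₃, i₁, k₁]
        have e13 : f₃.comp (Algebra.TensorProduct.map (AlgHom.id R S) i₂) =
            ((Algebra.TensorProduct.map (AlgHom.id (R ⧸ I) S₀) k₂).restrictScalars R).comp f₂ :=
          Algebra.TensorProduct.ext' fun a b => by simp [hF₂, hF₃, i₂, k₂]
        rw [push_comp, push_push, push_push, push_push, e23, e12, e13, ← push_push, ← push_push, ← push_push, hγ₀, hres,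
          hres, hres, Retract.push_gam, Retract.push_gam, Retract.push_gam]
        have c1 : (Algebra.TensorProduct.map (AlgHom.id (R ⧸ I) S₀) k₁).comp k₂ =
            (Algebra.TensorProduct.includeRight : S₀ ⊗[R ⧸ I] S₀ →ₐ[R ⧸ I] S₀ ⊗[R ⧸ I] (S₀ ⊗[R ⧸ I] S₀)).comp k₁ :=
          AlgHom.ext fun s => by simp [k₁, k₂]
        have c2 : (Algebra.TensorProduct.map (AlgHom.id (R ⧸ I) S₀) k₁).comp k₁ =
            (Algebra.TensorProduct.map (AlgHom.id (R ⧸ I) S₀) k₂).comp k₁ :=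
          AlgHom.ext fun s => by simp [k₁, k₂, Algebra.TensorProduct.one_def]
        have c3 : (Algebra.TensorProduct.includeRight : S₀ ⊗[R ⧸ I] S₀ →ₐ[R ⧸ I] S₀ ⊗[R ⧸ I] (S₀ ⊗[R ⧸ I] S₀)).comp k₂ =
            (Algebra.TensorProduct.map (AlgHom.id (R ⧸ I) S₀) k₂).comp k₂ :=
          AlgHom.ext fun s => by simp [k₂]
        rw [c1, c2, c3, Retract.gam_comp]) }
  obtain ⟨A, _, _, r, hrπ, hrinv⟩ := D.exists_descent
  have hπ' : ∀ m, coeffGroup f M (π m) = r₀.q (r₀.p m) := fun m => by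
    rw [← push_apply, hπ₀, Retract.gam_id_apply]
  have hqp : ∀ m, coeffGroup f M (r.q (r.p m)) = r₀.q (r₀.p m) := fun m => by rw [hrπ]; exact hπ' m
  refine ⟨A, inferInstance, inferInstance, r, hqp, ?_⟩
  let y : A → MonoidAlgebra S₀ M := fun a => coeffGroup f M (r.φ a)
  have hfix : ∀ a, r₀.q (ext1 r₀.p (y a)) = y a := by
    intro a
    have h1 : ext1 π (r.φ a) = r.φ a := by
      rw [r.qp_ext1 (g := π) _ hrπ, Retract.φ_apply, r.pq]
    have h2 := congrArg (coeffGroup f M) h1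
    rw [coeffGroup_ext1] at h2
    rw [← r₀.qp_ext1 (g := push f π) _ (fun m => (hπ' m).symm)]
    exact h2
  have hex : ∀ a : A, ∃ b : A₀, r₀.φ b = y a := by
    intro a
    have hdesc : coeffMap k₁ (ext1 r₀.p (y a)) = coeffMap k₂ (ext1 r₀.p (y a)) := by
      apply r₀.qh_injective k₂
      rw [r₀.qh_coeffMap, hfix, Retract.coeffMap_ext1, ← Retract.ext1_gam, ← hγ₀]
      show ext1 (push f₂ γ) (coeffGroup k₁ M (coeffGroup f M (r.φ a))) = coeffGroup k₂ M (coeffGroup f M (r.φ a))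
      rw [show coeffGroup k₁ M (coeffGroup f M (r.φ a)) = coeffGroup f₂ M (coeffGroup i₁ M (r.φ a)) by
          rw [coeffGroup_comp, hi₁, ← coeffGroup_comp]; rfl,
        show coeffGroup k₂ M (coeffGroup f M (r.φ a)) = coeffGroup f₂ M (coeffGroup i₂ M (r.φ a)) by
          rw [coeffGroup_comp, hi₂, ← coeffGroup_comp]; rfl, ← coeffGroup_ext1]
      exact congrArg (coeffGroup f₂ M) (hrinv a)
    have hrT : ∀ (g : S₀ →ₐ[R ⧸ I] S₀ ⊗[R ⧸ I] S₀) (x : S₀ ⊗[R ⧸ I] A₀),
        g.toLinearMap.rTensor A₀ x = coeffMap g x := fun g x => by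
      induction x using TensorProduct.induction_on with
      | zero => simp
      | tmul s c => rfl
      | add a b ha hb => simp only [map_add, ha, hb]
    obtain ⟨b, hb⟩ := exists_desc (R := R ⧸ I) (ext1 r₀.p (y a)) (by
      rw [hrT, hrT]; exact hdesc)
    exact ⟨b, by rw [Retract.φ_apply, hb, hfix]⟩
  choose w hw using hex
  letI : Algebra R A₀ := Algebra.compHom A₀ (Ideal.Quotient.mk I)
  haveI : IsScalarTower R (R ⧸ I) A₀ := IsScalarTower.of_algebraMap_eq fun _ => rfl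
  have hφinj := r₀.φ_injective
  let ω : A →ₐ[R] A₀ :=
    { toFun := w
      map_one' := hφinj (by simp only [hw, y, map_one])
      map_mul' := fun a b => hφinj (by simp only [hw, y, map_mul])
      map_zero' := hφinj (by simp only [hw, y, map_zero])
      map_add' := fun a b => hφinj (by simp only [hw, y, map_add])
      commutes' := fun x => hφinj (by
        rw [hw, IsScalarTower.algebraMap_apply R (R ⧸ I) A₀, AlgHom.commutes]
        show coeffGroup f M (r.φ (algebraMap R A x)) = _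
        rw [AlgHom.commutes, MonoidAlgebra.coe_algebraMap, MonoidAlgebra.coe_algebraMap, Function.comp_apply,
          Function.comp_apply, coeffGroup_single, AlgHom.commutes, IsScalarTower.algebraMap_apply R (R ⧸ I) S₀]) }
  have hω : ∀ a, r₀.φ (ω a) = coeffGroup f M (r.φ a) := hw
  let Ωa : (R ⧸ I) ⊗[R] A →ₐ[R ⧸ I] A₀ := Algebra.TensorProduct.lift (Algebra.ofId _ _) ω (fun _ _ => by exact Commute.all _ _)
  have hΩ : ∀ a, Ωa ((1 : R ⧸ I) ⊗ₜ[R] a) = ω a := fun a => by simp [Ωa]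
  let Ω : (R ⧸ I) ⊗[R] A →ₐc[R ⧸ I] A₀ := BialgHom.ofAlgHom Ωa
    (by
      ext a
      show CoalgebraStruct.counit (R := R ⧸ I) (Ωa ((1 : R ⧸ I) ⊗ₜ[R] a)) =
        CoalgebraStruct.counit (R := R ⧸ I) ((1 : R ⧸ I) ⊗ₜ[R] a)
      rw [hΩ, TensorProduct.counit_tmul, Bialgebra.counit_one]
      have hinj : Function.Injective (algebraMap (R ⧸ I) S₀) := FaithfulSMul.algebraMap_injective _ _
      apply hinj
      have h1 : CoalgebraStruct.counit (R := S₀) (r₀.φ (ω a)) = algebraMap (R ⧸ I) S₀ (CoalgebraStruct.counit (R := R ⧸ I) (ω a)) := by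
        rw [Retract.φ_apply, CoalgHomClass.counit_comp_apply, TensorProduct.counit_tmul, Bialgebra.counit_one,
          Algebra.algebraMap_eq_smul_one]
      rw [← h1, hω, coeffGroup_counit, Retract.φ_apply, CoalgHomClass.counit_comp_apply, TensorProduct.counit_tmul,
        Bialgebra.counit_one, ← Algebra.algebraMap_eq_smul_one, ← Algebra.algebraMap_eq_smul_one, AlgHom.commutes,
        IsScalarTower.algebraMap_apply R (R ⧸ I) S₀])
    (by
      ext a
      show Algebra.TensorProduct.map Ωa Ωa (CoalgebraStruct.comul (R := R ⧸ I) ((1 : R ⧸ I) ⊗ₜ[R] a)) =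
        CoalgebraStruct.comul (R := R ⧸ I) (Ωa ((1 : R ⧸ I) ⊗ₜ[R] a))
      apply r₀.κ_injective
      rw [r₀.κ_comul, hΩ, hω, coeffGroup_comul, ← r.κ_comul, TensorProduct.comul_tmul, Bialgebra.comul_one]
      generalize CoalgebraStruct.comul (R := R) a = z
      induction z using TensorProduct.induction_on with
      | zero => simp
      | add x y hx hy => simp only [map_add, TensorProduct.tmul_add, hx, hy]
      | tmul x y => simp [Algebra.TensorProduct.one_def, Retract.κ_tmul, coeffGroup₂_tmul, hΩ, hω])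
  have hΩa : ∀ x, Ω x = Ωa x := fun x => rfl
  let W : S ⊗[R] A →ₐ[R] S₀ ⊗[R ⧸ I] ((R ⧸ I) ⊗[R] A) :=
    Algebra.TensorProduct.lift
      (((Algebra.TensorProduct.includeLeft : S₀ →ₐ[R ⧸ I] S₀ ⊗[R ⧸ I] ((R ⧸ I) ⊗[R] A)).restrictScalars R).comp f)
      ((((Algebra.TensorProduct.includeRight : (R ⧸ I) ⊗[R] A →ₐ[R ⧸ I] S₀ ⊗[R ⧸ I] ((R ⧸ I) ⊗[R] A)).restrictScalars R)).comp
        Algebra.TensorProduct.includeRight) (fun _ _ => by exact Commute.all _ _)
  have hW : ∀ (s : S) (a : A), W (s ⊗ₜ[R] a) = f s ⊗ₜ[R ⧸ I] ((1 : R ⧸ I) ⊗ₜ[R] a) := fun s a => by simp [W]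
  let L := Ωa.toLinearMap.lTensor S₀
  have hW' : ∀ z, r₀.q (L (W z)) = coeffGroup f M (r.q z) := by
    intro z
    induction z using TensorProduct.induction_on with
    | zero => simp
    | add a b ha hb => simp only [map_add, ha, hb]
    | tmul s a =>
      rw [hW, r.q_tmul]
      show r₀.q (f s ⊗ₜ[R ⧸ I] Ωa ((1 : R ⧸ I) ⊗ₜ[R] a)) = _
      rw [hΩ, r₀.q_tmul, hω]
      exact ext_coeff fun p => by simp [coeffAt_coeffGroup]
  let Ξ : M →* S₀ ⊗[R ⧸ I] ((R ⧸ I) ⊗[R] A) := W.toMonoidHom.comp r.p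
  have hΞ : ∀ y : MonoidAlgebra S M, ext1 Ξ (coeffGroup f M y) = W (ext1 r.p y) := by
    intro y
    induction y using MonoidAlgebra.induction_linear with
    | zero => simp
    | add a b ha hb => simp only [map_add, ha, hb]
    | single m s =>
      rw [coeffGroup_single, ext1_single, ext1_single, Algebra.smul_def, Algebra.smul_def, map_mul]
      congr 1
      simp [W, Algebra.TensorProduct.one_def]
  have hL : Function.Bijective L := by
    constructor
    · have hleft : ∀ z, ext1 Ξ (r₀.q (L z)) = z := by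
        intro z
        induction z using TensorProduct.induction_on with
        | zero => simp
        | add a b ha hb => simp only [map_add, ha, hb]
        | tmul s v =>
          obtain ⟨a, rfl⟩ := TensorProduct.mk_surjective R A (R ⧸ I) Ideal.Quotient.mk_surjective v
          show ext1 Ξ (r₀.q (s ⊗ₜ[R ⧸ I] Ωa ((1 : R ⧸ I) ⊗ₜ[R] a))) = s ⊗ₜ[R ⧸ I] ((1 : R ⧸ I) ⊗ₜ[R] a)
          rw [hΩ, r₀.q_tmul, hω, map_smul, hΞ, Retract.φ_apply, r.pq, hW, map_one, TensorProduct.smul_tmul', smul_eq_mul, mul_one]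
      exact Function.LeftInverse.injective (g := fun x => ext1 Ξ (r₀.q x)) hleft
    · intro x
      have hsurj : Function.Surjective (coeffGroup f M) := by
        intro v
        induction v using MonoidAlgebra.induction_linear with
        | zero => exact ⟨0, map_zero _⟩
        | add a b ha hb =>
          obtain ⟨a', rfl⟩ := ha; obtain ⟨b', rfl⟩ := hb
          exact ⟨a' + b', map_add _ _ _⟩
        | single m s =>
          obtain ⟨s', rfl⟩ := hf s
          exact ⟨MonoidAlgebra.single m s', coeffGroup_single f m s'⟩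
      obtain ⟨y', hy'⟩ := hsurj (r₀.q x)
      refine ⟨W (ext1 r.p y'), r₀.q_injective ?_⟩
      rw [hW', ← r.qp_ext1 (g := π) _ hrπ, coeffGroup_ext1, hy',
        r₀.qp_ext1 (g := push f π) _ (fun m => (hπ' m).symm), r₀.pq]
  have hbijΩ : Function.Bijective Ω :=
    (Module.FaithfullyFlat.lTensor_bijective_iff_bijective (R ⧸ I) S₀ Ωa.toLinearMap).mp hL
  exact ⟨BialgEquiv.ofBijective Ω hbijΩ⟩

end Groth.Agent.H83.LiftGrp
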