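import Groth.Agent.H83.LiftGrp.GLHom

/-! Closed embeddings with a retraction of a group into a diagonalisable one, and their descent data. -/

set_option autoImplicit false

universe u

open TensorProduct

namespace Groth.Agent.H83.LiftGrp

open Groth.Agent.H83.MultType

/-- A retraction of `D(M)` onto the group `Spec (S ⊗ A)`. -/
structure Retract (R : Type u) [CommRing R] (A : Type u) [CommRing A] [HopfAlgebra R A] (S : Type u) [CommRing S]
    [Algebra R S] (M : Type u) [CommGroup M] where
  q : S ⊗[R] A →ₐc[S] MonoidAlgebra S M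
  p : M →* S ⊗[R] A
  p_gl : ∀ m, IsGroupLikeElem S (p m)
  pq : ∀ x, ext1 p (q x) = x

variable {R : Type u} [CommRing R] {A : Type u} [CommRing A] [HopfAlgebra R A] {S : Type u} [CommRing S]
    [Algebra R S] {M : Type u} [CommGroup M]

namespace Retract

variable (r : Retract R A S M)

/-- The coordinate map. -/
noncomputable def φ : A →ₐ[R] MonoidAlgebra S M :=
  ((r.q : S ⊗[R] A →ₐ[S] MonoidAlgebra S M).restrictScalars R).comp Algebra.TensorProduct.includeRight

theorem φ_apply (a : A) : r.φ a = r.q ((1 : S) ⊗ₜ[R] a) := rfl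

theorem q_tmul (s : S) (a : A) : r.q (s ⊗ₜ[R] a) = s • r.φ a := by
  rw [φ_apply, ← map_smul, TensorProduct.smul_tmul', smul_eq_mul, mul_one]

variable {T : Type u} [CommRing T] [Algebra R T]

/-- The coordinate map after a change of coefficients, as an algebra map. -/
noncomputable def qAlg (h : S →ₐ[R] T) : T ⊗[R] A →ₐ[T] MonoidAlgebra T M :=
  Algebra.TensorProduct.lift (Algebra.ofId T _)
    { (coeffGroup h M).comp r.φ.toRingHom with
      commutes' := fun x => by
        show coeffGroup h M (r.φ (algebraMap R A x)) = _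
        rw [AlgHom.commutes, MonoidAlgebra.coe_algebraMap, MonoidAlgebra.coe_algebraMap, Function.comp_apply,
          Function.comp_apply, coeffGroup_single, AlgHom.commutes] }
    (fun _ _ => Commute.all _ _)

theorem qAlg_tmul (h : S →ₐ[R] T) (t : T) (a : A) : r.qAlg h (t ⊗ₜ[R] a) = t • coeffGroup h M (r.φ a) := by
  simp [qAlg, Algebra.smul_def]

/-- The coordinate map after a change of coefficients. -/
noncomputable def qh (h : S →ₐ[R] T) : T ⊗[R] A →ₐc[T] MonoidAlgebra T M :=
  BialgHom.ofAlgHom (r.qAlg h)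
    (by
      ext a
      show CoalgebraStruct.counit (R := T) (r.qAlg h ((1 : T) ⊗ₜ[R] a)) = CoalgebraStruct.counit (R := T) ((1 : T) ⊗ₜ[R] a)
      rw [qAlg_tmul, one_smul, coeffGroup_counit, φ_apply, CoalgHomClass.counit_comp_apply r.q]
      simp [TensorProduct.counit_tmul, Algebra.algebraMap_eq_smul_one])
    (by
      ext a
      show Algebra.TensorProduct.map (r.qAlg h) (r.qAlg h) (CoalgebraStruct.comul (R := T) ((1 : T) ⊗ₜ[R] a)) =
        CoalgebraStruct.comul (R := T) (r.qAlg h ((1 : T) ⊗ₜ[R] a))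
      rw [qAlg_tmul, one_smul, coeffGroup_comul, φ_apply, ← CoalgHomClass.map_comp_comul_apply r.q, TensorProduct.comul_tmul,
        TensorProduct.comul_tmul, Bialgebra.comul_one, Bialgebra.comul_one]
      generalize CoalgebraStruct.comul (R := R) a = z
      induction z using TensorProduct.induction_on with
      | zero => simp
      | add x y hx hy => simp only [TensorProduct.tmul_add, map_add, hx, hy]
      | tmul x y =>
        simp [Algebra.TensorProduct.one_def, coeffGroup₂_tmul, qAlg_tmul, φ_apply, Algebra.TensorProduct.map_tmul])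

theorem qh_tmul (h : S →ₐ[R] T) (t : T) (a : A) : r.qh h (t ⊗ₜ[R] a) = t • coeffGroup h M (r.φ a) :=
  r.qAlg_tmul h t a

/-- The retraction after a change of coefficients. -/
noncomputable def ph (h : S →ₐ[R] T) : M →* T ⊗[R] A := (coeffMap h).toMonoidHom.comp r.p

theorem ph_gl (h : S →ₐ[R] T) (m : M) : IsGroupLikeElem T (r.ph h m) := groupLike_coeffMap h (r.p_gl m)

theorem coeffMap_smul' (h : S →ₐ[R] T) (s : S) (x : S ⊗[R] A) : coeffMap h (s • x) = h s • coeffMap h x := by
  induction x using TensorProduct.induction_on with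
  | zero => simp
  | tmul t a => simp [TensorProduct.smul_tmul', coeffMap_tmul]
  | add a b ha hb => simp only [smul_add, map_add, ha, hb]

theorem coeffMap_ext1 (h : S →ₐ[R] T) (y : MonoidAlgebra S M) :
    coeffMap h (ext1 r.p y) = ext1 (r.ph h) (coeffGroup h M y) := by
  induction y using MonoidAlgebra.induction_linear with
  | zero => simp
  | add a b ha hb => simp only [map_add, ha, hb]
  | single m s => rw [coeffGroup_single, ext1_single, ext1_single, coeffMap_smul']; rfl

theorem ph_qh (h : S →ₐ[R] T) (x : T ⊗[R] A) : ext1 (r.ph h) (r.qh h x) = x := by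
  induction x using TensorProduct.induction_on with
  | zero => simp
  | add a b ha hb => simp only [map_add, ha, hb]
  | tmul t a =>
    rw [qh_tmul, map_smul, ← coeffMap_ext1, φ_apply, pq, coeffMap_tmul, map_one, TensorProduct.smul_tmul', smul_eq_mul, mul_one]

theorem qh_injective (h : S →ₐ[R] T) : Function.Injective (r.qh h) :=
  Function.LeftInverse.injective (r.ph_qh h)

/-- The comparison of two pullbacks. -/
noncomputable def gam (h₁ h₂ : S →ₐ[R] T) : M →* MonoidAlgebra T M :=
  ((r.qh h₂ : T ⊗[R] A →ₐ[T] MonoidAlgebra T M)).toMonoidHom.comp (r.ph h₁)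

theorem gam_apply (h₁ h₂ : S →ₐ[R] T) (m : M) : r.gam h₁ h₂ m = r.qh h₂ (r.ph h₁ m) := rfl

theorem gam_gl (h₁ h₂ : S →ₐ[R] T) : IsGL (r.gam h₁ h₂) := fun m => (r.ph_gl h₁ m).map (r.qh h₂)

theorem gam_comp (h₁ h₂ h₃ : S →ₐ[R] T) : comp (r.gam h₂ h₃) (r.gam h₁ h₂) = r.gam h₁ h₃ := by
  refine MonoidHom.ext fun m => ?_
  rw [comp_apply, gam_apply, gam_apply]
  have : ∀ y : MonoidAlgebra T M, ext1 (r.gam h₂ h₃) y = r.qh h₃ (ext1 (r.ph h₂) y) := by
    intro y
    induction y using MonoidAlgebra.induction_linear with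
    | zero => simp
    | add a b ha hb => simp only [map_add, ha, hb]
    | single m s => rw [ext1_single, ext1_single, map_smul, gam_apply]
  rw [this, ph_qh]

theorem push_gam {U : Type u} [CommRing U] [Algebra R U] (g : T →ₐ[R] U) (h₁ h₂ : S →ₐ[R] T) :
    push g (r.gam h₁ h₂) = r.gam (g.comp h₁) (g.comp h₂) := by
  refine MonoidHom.ext fun m => ?_
  rw [push_apply, gam_apply, gam_apply]
  show _ = r.qh (g.comp h₂) (coeffMap (g.comp h₁) (r.p m))
  rw [← coeffMap_comp]
  show coeffGroup g M (r.qh h₂ (coeffMap h₁ (r.p m))) = _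
  generalize coeffMap h₁ (r.p m) = x
  induction x using TensorProduct.induction_on with
  | zero => simp
  | add a b ha hb => simp only [map_add, ha, hb]
  | tmul t a =>
    rw [qh_tmul, coeffMap_tmul, qh_tmul, ← coeffGroup_comp]
    refine ext_coeff fun p => ?_
    simp [coeffAt_coeffGroup]

theorem qh_id (x : S ⊗[R] A) : r.qh (AlgHom.id R S) x = r.q x := by
  induction x using TensorProduct.induction_on with
  | zero => simp
  | add a b ha hb => simp only [map_add, ha, hb]
  | tmul t a => rw [qh_tmul, coeffGroup_id, q_tmul]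

theorem gam_id_apply (m : M) : r.gam (AlgHom.id R S) (AlgHom.id R S) m = r.q (r.p m) := by
  rw [gam_apply, qh_id]
  exact congrArg r.q (coeffMap_id _)

theorem ext1_gam (h₁ h₂ : S →ₐ[R] T) (y : MonoidAlgebra T M) :
    ext1 (r.gam h₁ h₂) y = r.qh h₂ (ext1 (r.ph h₁) y) := by
  induction y using MonoidAlgebra.induction_linear with
  | zero => simp
  | add a b ha hb => simp only [map_add, ha, hb]
  | single m s => rw [ext1_single, ext1_single, map_smul, gam_apply]

theorem qh_coeffMap (h : S →ₐ[R] T) (x : S ⊗[R] A) : r.qh h (coeffMap h x) = coeffGroup h M (r.q x) := by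
  induction x using TensorProduct.induction_on with
  | zero => simp
  | add a b ha hb => simp only [map_add, ha, hb]
  | tmul t a =>
    rw [coeffMap_tmul, qh_tmul, q_tmul]
    exact ext_coeff fun p => by simp [coeffAt_coeffGroup]

theorem qp_ext1 (y : MonoidAlgebra S M) {g : M →* MonoidAlgebra S M} (hg : ∀ m, r.q (r.p m) = g m) :
    ext1 g y = r.q (ext1 r.p y) := by
  induction y using MonoidAlgebra.induction_linear with
  | zero => simp
  | add a b ha hb => simp only [map_add, ha, hb]
  | single m s => rw [ext1_single, ext1_single, map_smul, hg]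

theorem q_injective : Function.Injective r.q := Function.LeftInverse.injective r.pq

theorem φ_injective [Module.FaithfullyFlat R S] : Function.Injective r.φ := by
  intro a b h
  have h1 : (1 : S) ⊗ₜ[R] a = (1 : S) ⊗ₜ[R] b := r.q_injective h
  rw [← sub_eq_zero, ← TensorProduct.tmul_sub] at h1
  exact sub_eq_zero.mp ((Module.FaithfullyFlat.one_tmul_eq_zero_iff (R := R) (A := S) _ _).mp h1)

/-- The coordinate map of the square. -/
noncomputable def κ : A ⊗[R] A →ₐ[R] MonoidAlgebra S M ⊗[S] MonoidAlgebra S M :=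
  Algebra.TensorProduct.productMap ((Algebra.TensorProduct.includeLeft (S := R)).comp r.φ)
    (((Algebra.TensorProduct.includeRight : MonoidAlgebra S M →ₐ[S] MonoidAlgebra S M ⊗[S] MonoidAlgebra S M).restrictScalars R).comp r.φ)

theorem κ_tmul (a b : A) : r.κ (a ⊗ₜ[R] b) = r.φ a ⊗ₜ[S] r.φ b := by simp [κ]

theorem κ_comul (a : A) : r.κ (CoalgebraStruct.comul (R := R) a) = CoalgebraStruct.comul (R := S) (r.φ a) := by
  rw [φ_apply, ← CoalgHomClass.map_comp_comul_apply r.q, TensorProduct.comul_tmul, Bialgebra.comul_one]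
  generalize CoalgebraStruct.comul (R := R) a = z
  induction z using TensorProduct.induction_on with
  | zero => simp
  | add x y hx hy => simp only [TensorProduct.tmul_add, map_add, hx, hy]
  | tmul x y => simp [κ_tmul, φ_apply, Algebra.TensorProduct.one_def]

theorem κ_injective [Module.FaithfullyFlat R S] : Function.Injective r.κ := by
  let Λ : MonoidAlgebra S M ⊗[S] MonoidAlgebra S M →ₐ[S] S ⊗[R] (A ⊗[R] A) :=
    Algebra.TensorProduct.lift
      ((Algebra.TensorProduct.map (AlgHom.id S S) (Algebra.TensorProduct.includeLeft : A →ₐ[R] A ⊗[R] A)).comp (ext1 r.p))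
      ((Algebra.TensorProduct.map (AlgHom.id S S) (Algebra.TensorProduct.includeRight : A →ₐ[R] A ⊗[R] A)).comp (ext1 r.p))
      (fun _ _ => by exact Commute.all _ _)
  have hΛ : ∀ z, Λ (r.κ z) = (1 : S) ⊗ₜ[R] z := by
    intro z
    induction z using TensorProduct.induction_on with
    | zero => simp
    | add a b ha hb => simp only [map_add, TensorProduct.tmul_add, ha, hb]
    | tmul a b => simp [κ_tmul, Λ, φ_apply, pq]
  intro x y hxy
  have h1 : (1 : S) ⊗ₜ[R] x = (1 : S) ⊗ₜ[R] y := by rw [← hΛ, ← hΛ, hxy]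
  rw [← sub_eq_zero, ← TensorProduct.tmul_sub] at h1
  exact sub_eq_zero.mp ((Module.FaithfullyFlat.one_tmul_eq_zero_iff (R := R) (A := S) _ _).mp h1)

end Retract

end Groth.Agent.H83.LiftGrp
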